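import Mathlib
import Cfsg.Prelude.Def_Transfer
import Cfsg.Agent.H3.PGroup

set_option autoImplicit false

namespace Cfsg.Agent.H54

open scoped commutatorElement

/-- The basic data of an extraspecial `2`-group: squares and commutators are central and the
centre has order `2`. -/
structure ES2 (E : Type*) [Group E] : Prop where
  sq_mem : ∀ x : E, x * x ∈ Subgroup.center E
  comm_mem : ∀ x y : E, ⁅x, y⁆ ∈ Subgroup.center E
  card_center : Nat.card (Subgroup.center E) = 2

section es2

variable {E : Type*} [Group E]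

theorem ES2.of_isExtraspecial [Finite E] (hE : Cfsg.IsExtraspecial 2 E) : ES2 E := by
  have : Fact (Nat.Prime 2) := ⟨Nat.prime_two⟩
  refine ⟨?_, ?_, hE.2⟩
  · intro x
    have h := Cfsg.Agent.H3.pow_mem_frattini hE.1.1 x
    rw [hE.1.2.1, pow_two] at h
    exact h
  · intro x y
    rw [← hE.1.2.2, commutator_def]
    exact Subgroup.commutator_mem_commutator (Subgroup.mem_top x) (Subgroup.mem_top y)

/-- commutation with `y` as a homomorphism into the centre, when all commutators are central -/
def commHomCenter (h : ∀ x y : E, ⁅x, y⁆ ∈ Subgroup.center E) (y : E) :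
    E →* Subgroup.center E where
  toFun s := ⟨⁅s, y⁆, h s y⟩
  map_one' := by
    apply Subtype.ext
    simp
  map_mul' a b := by
    apply Subtype.ext
    have hb := Subgroup.mem_center_iff.1 (h b y)
    show ⁅a * b, y⁆ = ⁅a, y⁆ * ⁅b, y⁆
    have e1 : ⁅a * b, y⁆ = a * ⁅b, y⁆ * a⁻¹ * ⁅a, y⁆ := by
      simp only [commutatorElement_def]; group
    rw [e1, hb a, mul_inv_cancel_right, hb ⁅a, y⁆]

theorem commHomCenter_ker (h : ∀ x y : E, ⁅x, y⁆ ∈ Subgroup.center E) (y : E) :
    (commHomCenter h y).ker = Subgroup.centralizer {y} := by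
  ext s
  rw [MonoidHom.mem_ker, Subgroup.mem_centralizer_iff]
  constructor
  · intro hs x hx
    rw [Set.mem_singleton_iff] at hx
    subst hx
    have h1 : ⁅s, x⁆ = 1 := congrArg Subtype.val hs
    rw [commutatorElement_eq_one_iff_mul_comm] at h1
    exact h1.symm
  · intro hs
    apply Subtype.ext
    show ⁅s, y⁆ = 1
    rw [commutatorElement_eq_one_iff_mul_comm]
    exact (hs y rfl).symm

theorem ES2.central_sq (hES : ES2 E) {c : E} (hc : c ∈ Subgroup.center E) : c * c = 1 := by
  have h1 : (⟨c, hc⟩ : Subgroup.center E) ^ Nat.card (Subgroup.center E) = 1 := pow_card_eq_one'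
  rw [hES.card_center] at h1
  have h2 := congrArg Subtype.val h1
  rw [← pow_two]
  simpa using h2

theorem ES2.central_eq (hES : ES2 E) {c d : E} (hc : c ∈ Subgroup.center E)
    (hd : d ∈ Subgroup.center E) (hc1 : c ≠ 1) (hd1 : d ≠ 1) : c = d := by
  obtain ⟨x, y, hxy, huniv⟩ := Nat.card_eq_two_iff.mp hES.card_center
  have hmem : ∀ w : Subgroup.center E, w = x ∨ w = y := by
    intro w
    have : w ∈ ({x, y} : Set (Subgroup.center E)) := by rw [huniv]; trivial
    simpa using this
  have hc' : (⟨c, hc⟩ : Subgroup.center E) ≠ 1 := fun h => hc1 (congrArg Subtype.val h)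
  have hd' : (⟨d, hd⟩ : Subgroup.center E) ≠ 1 := fun h => hd1 (congrArg Subtype.val h)
  have key : (⟨c, hc⟩ : Subgroup.center E) = ⟨d, hd⟩ := by
    rcases hmem 1 with h1 | h1 <;> rcases hmem ⟨c, hc⟩ with h2 | h2 <;>
      rcases hmem ⟨d, hd⟩ with h3 | h3
    · exact absurd (h2.trans h1.symm) hc'
    · exact absurd (h2.trans h1.symm) hc'
    · exact absurd (h3.trans h1.symm) hd'
    · exact h2.trans h3.symm
    · exact h2.trans h3.symm
    · exact absurd (h3.trans h1.symm) hd'
    · exact absurd (h2.trans h1.symm) hc'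
    · exact absurd (h2.trans h1.symm) hc'
  exact congrArg Subtype.val key

variable [Finite E]

omit [Finite E] in
theorem ES2.card_le_two_mul_card_inf_centralizer (hES : ES2 E) (C : Subgroup E) (x : E) :
    Nat.card C ≤ 2 * Nat.card (C ⊓ Subgroup.centralizer ({x} : Set E) : Subgroup E) := by
  have hn : (Subgroup.centralizer ({x} : Set E)).Normal := by
    rw [← commHomCenter_ker hES.comm_mem x]
    exact MonoidHom.normal_ker _
  have h1 : (Subgroup.centralizer ({x} : Set E)).index ∣ 2 := by
    rw [← commHomCenter_ker hES.comm_mem x, Subgroup.index_ker, ← hES.card_center]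
    exact Subgroup.card_subgroup_dvd_card _
  have h2 : (Subgroup.centralizer ({x} : Set E)).relIndex C ∣ 2 :=
    (Subgroup.relIndex_dvd_index_of_normal _ C).trans h1
  have h3 : (Subgroup.centralizer ({x} : Set E)).relIndex C ≤ 2 := Nat.le_of_dvd (by norm_num) h2
  have h4 := Subgroup.relIndex_mul_relIndex ⊥ (C ⊓ Subgroup.centralizer ({x} : Set E)) C bot_le
    inf_le_left
  rw [Subgroup.relIndex_bot_left, Subgroup.relIndex_bot_left, Subgroup.inf_relIndex_left] at h4
  rw [← h4, mul_comm]
  exact Nat.mul_le_mul_right _ h3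

theorem two_mul_card_le_of_lt {B B₁ : Subgroup E} (h : B < B₁) :
    2 * Nat.card B ≤ Nat.card B₁ := by
  obtain ⟨k, hk⟩ := Subgroup.card_dvd_of_le h.le
  have hpos : 0 < Nat.card B₁ := Nat.card_pos
  have hne : Nat.card B ≠ Nat.card B₁ := by
    intro he
    exact h.ne (Subgroup.eq_of_le_of_card_ge h.le he.ge)
  have hk0 : k ≠ 0 := by
    rintro rfl
    omega
  have hk1 : k ≠ 1 := by
    rintro rfl
    omega
  have hk2 : 2 ≤ k := by omega
  rw [hk, mul_comm]
  exact Nat.mul_le_mul_left _ hk2

omit [Finite E] in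
theorem lt_sup_zpowers {B : Subgroup E} {x : E} (hx : x ∉ B) : B < B ⊔ Subgroup.zpowers x := by
  refine lt_of_le_of_ne le_sup_left ?_
  intro h
  apply hx
  rw [h]
  exact (le_sup_right : Subgroup.zpowers x ≤ _) (Subgroup.mem_zpowers x)

/-- `|B| |C_E(B)| ≤ |E| |Z(E)|` for every subgroup `B` of an extraspecial `2`-group. -/
theorem ES2.card_mul_card_centralizer_le (hES : ES2 E) (B : Subgroup E) :
    Nat.card B * Nat.card (Subgroup.centralizer (B : Set E)) ≤ Nat.card E * 2 := by
  induction B using WellFoundedGT.induction with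
  | ind B ih =>
    by_cases hB : B = ⊤
    · subst hB
      rw [Subgroup.coe_top, Subgroup.centralizer_univ, hES.card_center, Subgroup.card_top]
    · obtain ⟨x, -, hx⟩ := SetLike.exists_of_lt (lt_top_iff_ne_top.mpr hB)
      have hlt := lt_sup_zpowers hx
      have h1 := two_mul_card_le_of_lt hlt
      have h2 := hES.card_le_two_mul_card_inf_centralizer (Subgroup.centralizer (B : Set E)) x
      have h3 : Subgroup.centralizer (B : Set E) ⊓ Subgroup.centralizer ({x} : Set E) ≤
          Subgroup.centralizer ((B ⊔ Subgroup.zpowers x : Subgroup E) : Set E) := by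
        rw [Subgroup.le_centralizer_iff]
        apply sup_le
        · rw [← Subgroup.le_centralizer_iff]
          exact inf_le_left
        · rw [Subgroup.zpowers_le, Subgroup.mem_centralizer_iff]
          rintro c ⟨-, hc⟩
          exact (Subgroup.mem_centralizer_iff.mp hc x rfl).symm
      have h4 := Subgroup.card_le_of_le h3
      have h5 := ih _ hlt
      nlinarith

/-- An abelian subgroup of order `2^(m+1)` of an extraspecial group of order `2^(2m+1)` is
self-centralizing. -/
theorem ES2.centralizer_le_of_card (hES : ES2 E) (m : ℕ) (hcard : Nat.card E = 2 ^ (2 * m + 1))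
    (A : Subgroup E) (hA : ∀ a ∈ A, ∀ b ∈ A, a * b = b * a) (hAcard : Nat.card A = 2 ^ (m + 1)) :
    Subgroup.centralizer (A : Set E) ≤ A := by
  intro x hx
  by_contra hxA
  have hlt := lt_sup_zpowers hxA
  have h1 := two_mul_card_le_of_lt hlt
  have hAc : A ≤ Subgroup.centralizer (A : Set E) := by
    intro a ha
    rw [Subgroup.mem_centralizer_iff]
    intro b hb
    exact hA b hb a ha
  have hxz : Subgroup.zpowers x ≤ Subgroup.centralizer ((Subgroup.zpowers x : Subgroup E) : Set E) := by
    rw [Subgroup.zpowers_le, Subgroup.mem_centralizer_iff]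
    intro h hh
    obtain ⟨n, rfl⟩ := Subgroup.mem_zpowers_iff.mp hh
    exact ((Commute.refl x).zpow_left n).eq
  have hBc : A ⊔ Subgroup.zpowers x ≤
      Subgroup.centralizer ((A ⊔ Subgroup.zpowers x : Subgroup E) : Set E) := by
    apply sup_le
    · rw [Subgroup.le_centralizer_iff]
      exact sup_le hAc (Subgroup.zpowers_le.mpr hx)
    · rw [Subgroup.le_centralizer_iff]
      refine sup_le ?_ hxz
      rw [Subgroup.le_centralizer_iff]
      exact Subgroup.zpowers_le.mpr hx
  have h2 := Subgroup.card_le_of_le hBc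
  have h3 := hES.card_mul_card_centralizer_le (A ⊔ Subgroup.zpowers x)
  have hP : 0 < 2 ^ m := pos_of_ne_zero (by positivity)
  have e1 : 2 ^ (2 * m + 1) = 2 * (2 ^ m * 2 ^ m) := by ring
  have e2 : 2 ^ (m + 1) = 2 * 2 ^ m := by ring
  rw [hcard, e1] at h3
  rw [hAcard, e2] at h1
  nlinarith

end es2

end Cfsg.Agent.H54
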