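import Mathlib
import Cfsg.Agent.H54.ES2

set_option autoImplicit false

namespace Cfsg.Agent.H54

open scoped commutatorElement

section es2count

variable {E : Type*} [Group E] [Finite E]

omit [Finite E] in
open Classical in
/-- For `x` outside the self-centralizing elementary abelian subgroup `A`, exactly half of the
elements of the coset `xA` square to `1`. -/
theorem ES2.coset_count (hES : ES2 E) (A : Subgroup E) [Fintype A]
    (hA2 : ∀ a ∈ A, a * a = 1) (hA : ∀ a ∈ A, ∀ b ∈ A, a * b = b * a)
    (hCA : Subgroup.centralizer (A : Set E) ≤ A) (x : E) (hx : x ∉ A) :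
    2 * (∑ a : A, if (x * (a : E)) * (x * (a : E)) = 1 then 1 else 0) = Fintype.card A := by
  have hx' : x ∉ Subgroup.centralizer (A : Set E) := fun h => hx (hCA h)
  rw [Subgroup.mem_centralizer_iff] at hx'
  push Not at hx'
  obtain ⟨a₀, ha₀, hne⟩ := hx'
  set z₀ : E := ⁅a₀, x⁆ with hz₀
  have hz₀c : z₀ ∈ Subgroup.center E := hES.comm_mem a₀ x
  have hz₀1 : z₀ ≠ 1 := by
    rw [hz₀, Ne, commutatorElement_eq_one_iff_mul_comm]
    exact hne
  have hz₀sq : z₀ * z₀ = 1 := hES.central_sq hz₀c
  have hcomm : a₀ * x = z₀ * x * a₀ := by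
    rw [hz₀, commutatorElement_def]; group
  have key : ∀ a : A, (x * (a₀ * (a : E))) * (x * (a₀ * (a : E))) =
      z₀ * ((x * (a : E)) * (x * (a : E))) := by
    intro a
    have h1 : a₀ * (a : E) = (a : E) * a₀ := hA a₀ ha₀ a a.2
    have h2 := Subgroup.mem_center_iff.mp hz₀c
    calc (x * (a₀ * (a : E))) * (x * (a₀ * (a : E)))
        = x * (a : E) * (a₀ * x) * a₀ * (a : E) := by nth_rewrite 1 [h1]; group
      _ = x * (a : E) * (z₀ * x * a₀) * a₀ * (a : E) := by rw [hcomm]
      _ = x * (a : E) * z₀ * x * (a₀ * a₀) * (a : E) := by group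
      _ = x * (a : E) * z₀ * x * (a : E) := by rw [hA2 a₀ ha₀, mul_one]
      _ = (x * (a : E)) * z₀ * (x * (a : E)) := by group
      _ = z₀ * (x * (a : E)) * (x * (a : E)) := by rw [h2 (x * (a : E))]
      _ = z₀ * ((x * (a : E)) * (x * (a : E))) := by group
  have hiff : ∀ a : A, ((x * (a₀ * (a : E))) * (x * (a₀ * (a : E))) = 1) ↔
      ¬ ((x * (a : E)) * (x * (a : E)) = 1) := by
    intro a
    rw [key a]
    constructor
    · intro h1 h2
      rw [h2, mul_one] at h1
      exact hz₀1 h1
    · intro h1
      have h2 := hES.central_eq (hES.sq_mem (x * (a : E))) hz₀c h1 hz₀1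
      rw [h2, hz₀sq]
  have hsum : (∑ a : A, if (x * (a : E)) * (x * (a : E)) = 1 then 1 else 0) =
      ∑ a : A, if (x * (a₀ * (a : E))) * (x * (a₀ * (a : E))) = 1 then 1 else 0 := by
    symm
    exact Fintype.sum_equiv (Equiv.mulLeft (⟨a₀, ha₀⟩ : A))
      (fun a : A => if (x * (a₀ * (a : E))) * (x * (a₀ * (a : E))) = 1 then 1 else 0)
      (fun a : A => if (x * (a : E)) * (x * (a : E)) = 1 then 1 else 0) (fun a => rfl)
  rw [two_mul]
  nth_rewrite 2 [hsum]
  rw [← Finset.sum_add_distrib]
  have : ∀ a : A, ((if (x * (a : E)) * (x * (a : E)) = 1 then 1 else 0) +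
      (if (x * (a₀ * (a : E))) * (x * (a₀ * (a : E))) = 1 then 1 else 0) : ℕ) = 1 := by
    intro a
    by_cases h : (x * (a : E)) * (x * (a : E)) = 1
    · rw [if_pos h, if_neg (fun h' => (hiff a).mp h' h)]
    · rw [if_neg h, if_pos ((hiff a).mpr h)]
  rw [Finset.sum_congr rfl (fun a _ => this a)]
  simp

/-- Number of solutions of `x² = 1` in an extraspecial `2`-group of plus type. -/
theorem ES2.two_mul_card_sq_eq_one (hES : ES2 E) (A : Subgroup E)
    (hA2 : ∀ a ∈ A, a * a = 1) (hA : ∀ a ∈ A, ∀ b ∈ A, a * b = b * a)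
    (hCA : Subgroup.centralizer (A : Set E) ≤ A) :
    2 * Nat.card {x : E // x * x = 1} = Nat.card E + Nat.card A := by
  classical
  have : Fintype E := Fintype.ofFinite E
  have hApos : 0 < Fintype.card A := Fintype.card_pos
  -- the double sum
  have h1 : (∑ x : E, ∑ a : A, if (x * (a : E)) * (x * (a : E)) = 1 then 1 else 0) =
      Fintype.card A * Fintype.card {x : E // x * x = 1} := by
    rw [Finset.sum_comm]
    have : ∀ a : A, (∑ x : E, if (x * (a : E)) * (x * (a : E)) = 1 then 1 else 0) =
        Fintype.card {x : E // x * x = 1} := by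
      intro a
      rw [Fintype.card_subtype, Finset.card_filter]
      exact Fintype.sum_equiv (Equiv.mulRight (a : E))
        (fun x : E => if (x * (a : E)) * (x * (a : E)) = 1 then 1 else 0)
        (fun x : E => if x * x = 1 then 1 else 0) (fun x => rfl)
    rw [Finset.sum_congr rfl (fun a _ => this a)]
    simp
  have h2 : ∀ x : E, 2 * (∑ a : A, if (x * (a : E)) * (x * (a : E)) = 1 then 1 else 0) =
      Fintype.card A + (if x ∈ A then Fintype.card A else 0) := by
    intro x
    by_cases hx : x ∈ A
    · rw [if_pos hx]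
      have : ∀ a : A, (if (x * (a : E)) * (x * (a : E)) = 1 then 1 else 0 : ℕ) = 1 := by
        intro a
        rw [if_pos]
        have e := hA x hx a a.2
        calc (x * (a : E)) * (x * (a : E)) = x * ((a : E) * x) * (a : E) := by group
          _ = x * (x * (a : E)) * (a : E) := by rw [e]
          _ = (x * x) * ((a : E) * (a : E)) := by group
          _ = 1 := by rw [hA2 x hx, hA2 a a.2, one_mul]
      rw [Finset.sum_congr rfl (fun a _ => this a)]
      simp
      ring
    · rw [if_neg hx, add_zero]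
      exact hES.coset_count A hA2 hA hCA x hx
  have h3 : (∑ x : E, (Fintype.card A + (if x ∈ A then Fintype.card A else 0))) =
      Fintype.card E * Fintype.card A + Fintype.card A * Fintype.card A := by
    rw [Finset.sum_add_distrib]
    congr 1
    · simp
    · rw [← Finset.sum_filter]
      simp
      rw [← Fintype.card_subtype]
  have h4 : 2 * (Fintype.card A * Fintype.card {x : E // x * x = 1}) =
      Fintype.card E * Fintype.card A + Fintype.card A * Fintype.card A := by
    rw [← h1, Finset.mul_sum, Finset.sum_congr rfl (fun x _ => h2 x), h3]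
  rw [Nat.card_eq_fintype_card, Nat.card_eq_fintype_card, Nat.card_eq_fintype_card]
  have h5 : Fintype.card A * (2 * Fintype.card {x : E // x * x = 1}) =
      Fintype.card A * (Fintype.card E + Fintype.card A) := by
    calc Fintype.card A * (2 * Fintype.card {x : E // x * x = 1})
        = 2 * (Fintype.card A * Fintype.card {x : E // x * x = 1}) := by ring
      _ = Fintype.card E * Fintype.card A + Fintype.card A * Fintype.card A := h4
      _ = Fintype.card A * (Fintype.card E + Fintype.card A) := by ring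
  exact Nat.eq_of_mul_eq_mul_left hApos h5

omit [Finite E] in
theorem ES2.orderOf_eq_four_iff (hES : ES2 E) (x : E) : orderOf x = 4 ↔ ¬ (x * x = 1) := by
  constructor
  · intro h hx
    have h1 : orderOf x ∣ 2 := orderOf_dvd_of_pow_eq_one (by rw [pow_two]; exact hx)
    rw [h] at h1
    exact absurd h1 (by decide)
  · intro hx
    have h4 : x ^ 4 = 1 := by
      have e : x ^ 4 = (x * x) * (x * x) := by
        rw [← pow_two, ← pow_two, ← pow_mul]
      rw [e]
      exact hES.central_sq (hES.sq_mem x)
    have h1 : orderOf x ∣ 2 ^ 2 := orderOf_dvd_of_pow_eq_one h4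
    obtain ⟨k, hk, hk2⟩ := (Nat.dvd_prime_pow Nat.prime_two).mp h1
    interval_cases k
    · exfalso
      apply hx
      rw [pow_zero, orderOf_eq_one_iff] at hk2
      rw [hk2, one_mul]
    · exfalso
      apply hx
      have := pow_orderOf_eq_one x
      rw [hk2, pow_one, pow_two] at this
      exact this
    · exact hk2

/-- An extraspecial `2`-group of order `2^(2m+1)` of plus type has exactly `2^(2m) - 2^m`
elements of order `4`. -/
theorem card_orderOf_four_of_isExtraspecial (m : ℕ) (hE : Cfsg.IsExtraspecial 2 E)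
    (hcard : Nat.card E = 2 ^ (2 * m + 1))
    (hplus : ∃ A : Subgroup E, Cfsg.IsElementaryAbelian 2 A ∧ Nat.card A = 2 ^ (m + 1)) :
    Nat.card {x : E // orderOf x = 4} = 2 ^ (2 * m) - 2 ^ m := by
  classical
  have hES := ES2.of_isExtraspecial hE
  obtain ⟨A, hA, hAcard⟩ := hplus
  have hcomm : ∀ u ∈ A, ∀ v ∈ A, u * v = v * u := fun u hu v hv =>
    congrArg Subtype.val (hA.1.is_comm.comm ⟨u, hu⟩ ⟨v, hv⟩)
  have hsq : ∀ u ∈ A, u * u = 1 := fun u hu => by rw [← pow_two]; exact hA.2 u hu
  have hCA := hES.centralizer_le_of_card m hcard A hcomm hAcard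
  have hcount := hES.two_mul_card_sq_eq_one A hsq hcomm hCA
  have h1 : Nat.card {x : E // orderOf x = 4} = Nat.card {x : E // ¬ (x * x = 1)} :=
    Nat.card_congr (Equiv.subtypeEquivRight (fun x => hES.orderOf_eq_four_iff x))
  have : Fintype E := Fintype.ofFinite E
  have h2 : Nat.card {x : E // ¬ (x * x = 1)} = Nat.card E - Nat.card {x : E // x * x = 1} := by
    rw [Nat.card_eq_fintype_card, Nat.card_eq_fintype_card, Nat.card_eq_fintype_card,
      Fintype.card_subtype_compl]
  rw [h1, h2]
  rw [hcard, hAcard] at hcount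
  rw [hcard]
  have e1 : 2 ^ (2 * m + 1) = 2 * 2 ^ (2 * m) := by ring
  have e2 : 2 ^ (m + 1) = 2 * 2 ^ m := by ring
  rw [e1, e2] at hcount
  rw [e1]
  omega

end es2count

end Cfsg.Agent.H54
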