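import Cfsg.Agent.H86.FsDefs

/-!
# FS-EMB (piece of the FS project, S5515)

If `N ⊴ G` contains its centralizer and `N ≅ P` has trivial centre, then `G` is isomorphic to the
full preimage in `Aut(P)` of a subgroup `Q` of `Out(P)`, and `G / N ≅ Q`.
The map is `c g p = e (g * e.symm p * g⁻¹)`.
-/

set_option autoImplicit false

namespace Cfsg.Agent.H54.Fs

universe u v

theorem emb : Cfsg.Agent.H86.Fs.StEmb.{u, v} := by
  intro G _ P _ N _ hC e hP
  let c : G →* MulAut P := (MulAut.congr e).toMonoidHom.comp (MulAut.conjNormal (H := N))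
  have hc : ∀ (g : G) (p : P), c g p = e (MulAut.conjNormal g (e.symm p)) := fun g p => rfl
  have hcN : ∀ n : ↥N, c (n : G) = MulAut.conj (e n) := by
    intro n
    ext p
    rw [hc, MulAut.conj_apply]
    have h1 : MulAut.conjNormal (n : G) (e.symm p) = n * e.symm p * n⁻¹ := by
      apply Subtype.ext
      rw [MulAut.conjNormal_apply]
      simp
    rw [h1, map_mul, map_mul, map_inv, MulEquiv.apply_symm_apply]
  have hinj : Function.Injective c := by
    rw [injective_iff_map_eq_one]
    intro g hg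
    have hfix : ∀ n : ↥N, g * (n : G) * g⁻¹ = n := by
      intro n
      have h1 : c g (e n) = e n := by rw [hg]; rfl
      rw [hc, MulEquiv.symm_apply_apply] at h1
      have h2 := e.injective h1
      have h3 := congrArg Subtype.val h2
      rwa [MulAut.conjNormal_apply] at h3
    have hgN : g ∈ N := by
      apply hC
      rw [Subgroup.mem_centralizer_iff]
      intro n hn
      have h0 : g * n * g⁻¹ = n := hfix ⟨n, hn⟩
      calc n * g = (g * n * g⁻¹) * g := by rw [h0]
        _ = g * n := by group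
    have h1 : c g = MulAut.conj (e ⟨g, hgN⟩) := hcN ⟨g, hgN⟩
    have h2 : e ⟨g, hgN⟩ ∈ Subgroup.center P := by
      rw [Subgroup.mem_center_iff]
      intro p
      have h3 : MulAut.conj (e ⟨g, hgN⟩) p = p := by rw [← h1, hg]; rfl
      rw [MulAut.conj_apply] at h3
      calc p * e ⟨g, hgN⟩ = (e ⟨g, hgN⟩ * p * (e ⟨g, hgN⟩)⁻¹) * e ⟨g, hgN⟩ := by rw [h3]
        _ = e ⟨g, hgN⟩ * p := by group
    rw [hP, Subgroup.mem_bot] at h2
    have h4 : (⟨g, hgN⟩ : ↥N) = 1 := by
      apply e.injective
      rw [h2, map_one]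
    exact congrArg Subtype.val h4
  have hInn : Cfsg.Inn P ≤ c.range := by
    rintro _ ⟨p, rfl⟩
    exact ⟨(e.symm p : G), by rw [hcN, MulEquiv.apply_symm_apply]⟩
  refine ⟨c.range.map (QuotientGroup.mk' (Cfsg.Inn P)), ⟨?_⟩, ⟨?_⟩⟩
  · have hcomap : (c.range.map (QuotientGroup.mk' (Cfsg.Inn P))).comap
        (QuotientGroup.mk' (Cfsg.Inn P)) = c.range := by
      rw [Subgroup.comap_map_eq, QuotientGroup.ker_mk', sup_eq_left]
      exact hInn
    exact (MonoidHom.ofInjective hinj).trans (MulEquiv.subgroupCongr hcomap.symm)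
  · let φ : G →* Cfsg.Out P := (QuotientGroup.mk' (Cfsg.Inn P)).comp c
    have hker : φ.ker = N := by
      ext g
      rw [MonoidHom.mem_ker]
      show (QuotientGroup.mk' (Cfsg.Inn P)) (c g) = 1 ↔ g ∈ N
      rw [QuotientGroup.mk'_apply, QuotientGroup.eq_one_iff]
      constructor
      · rintro ⟨p, hp⟩
        have h5 : c (e.symm p : G) = c g := by
          rw [hcN, MulEquiv.apply_symm_apply]
          exact hp
        rw [← hinj h5]
        exact (e.symm p).2
      · intro hg
        exact ⟨e ⟨g, hg⟩, (hcN ⟨g, hg⟩).symm⟩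
    have hrange : φ.range = c.range.map (QuotientGroup.mk' (Cfsg.Inn P)) :=
      MonoidHom.range_comp _ _
    exact ((QuotientGroup.quotientMulEquivOfEq hker.symm).trans
      (QuotientGroup.quotientKerEquivRange φ)).trans (MulEquiv.subgroupCongr hrange)

end Cfsg.Agent.H54.Fs

universe u' v' in
example : Cfsg.Agent.H86.Fs.StEmb.{u', v'} := Cfsg.Agent.H54.Fs.emb
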