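import Cfsg.Agent.H52.JxDefs
import Cfsg.Agent.H39.JzLex

/-!
# JX-STAR (piece X1 of JY-KILL2, S2953)

For `T < S` (in the situation `Base S M T K L`) no non-trivial subgroup `F ≤ T` is normalized by
`K ⊔ T` and by `N_S(T)`: `N_G(F)` would be a 2-local over `N_S(T) > T`, hence inside `M` by the
maximality of `T` (helper39's `twoLocal_le_of_normalizer`), but it contains `K ⊄ M`.
-/

set_option autoImplicit false
open Cfsg

namespace Cfsg.Agent.H54.Jx

open Cfsg.Agent.H64.Jz

universe u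

theorem star : Cfsg.Agent.H52.Jx.StStar.{u} := by
  intro G _ _ S M T K L hB hne F hF1 hFT hKF hSF
  obtain ⟨-, -, -, hMJ, hTmax, hTS, hK, -, -⟩ := hB
  have hT2 : IsPGroup 2 ↥T := hTmax.1.1
  have hF2 : IsPGroup 2 ↥F := hT2.to_le hFT
  have hNF : IsTwoLocal (Subgroup.normalizer (F : Set G)) := ⟨F, hF2, hF1, rfl⟩
  have hSM : (S : Subgroup G) ≤ M :=
    (Subgroup.le_normalizer.trans
      (Cfsg.Agent.Helper55.ThJ.normalizer_le (S : Subgroup G))).trans hMJ
  have hle : Subgroup.normalizer (F : Set G) ≤ M :=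
    Cfsg.Agent.H39.Jz.twoLocal_le_of_normalizer hTmax S.isPGroup' hSM hTS hne hNF
      (fun x hx => hSF x hx.1 hx.2)
  exact hK.2.1 ((le_sup_left.trans hKF).trans hle)

end Cfsg.Agent.H54.Jx

universe v in
example : Cfsg.Agent.H52.Jx.StStar.{v} := Cfsg.Agent.H54.Jx.star
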