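import Mathlib
import Cfsg.Agent.H54.SPE
import Cfsg.Agent.H38.PGroupBasic

set_option autoImplicit false

namespace Cfsg.Agent.H54

/-- A nontrivial subgroup `T` of a `p`-subgroup `S` that is normalized by `S` contains an element
of order `p` which is central in `S`. -/
theorem exists_central_orderOf_of_normal_ne_bot {G : Type*} [Group G] [Finite G] {p : ℕ}
    [Fact p.Prime] (S T : Subgroup G) (hS : IsPGroup p S) (hTS : T ≤ S)
    (hn : S ≤ Subgroup.normalizer (T : Set G)) (hT : T ≠ ⊥) :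
    ∃ z ∈ T, orderOf z = p ∧ ∀ s ∈ S, s * z = z * s := by
  have hnorm : (T.subgroupOf S).Normal := (Subgroup.normal_subgroupOf_iff_le_normalizer hTS).mpr hn
  have hne : T.subgroupOf S ≠ ⊥ := by
    intro h
    apply hT
    rw [eq_bot_iff]
    intro x hx
    have : (⟨x, hTS hx⟩ : S) ∈ T.subgroupOf S := hx
    rw [h, Subgroup.mem_bot] at this
    exact congrArg Subtype.val this
  obtain ⟨z, hzN, hzc, hz1⟩ :=
    Cfsg.Agent.H38.exists_mem_center_of_normal_ne_bot (G := ↥S) hS (T.subgroupOf S) hne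
  have hW : T ⊓ Subgroup.centralizer (S : Set G) ≠ ⊥ := by
    intro h
    have hz : (z : G) ∈ T ⊓ Subgroup.centralizer (S : Set G) := by
      refine ⟨hzN, Subgroup.mem_centralizer_iff.mpr ?_⟩
      intro s hs
      have := Subgroup.mem_center_iff.mp hzc ⟨s, hs⟩
      exact congrArg Subtype.val this
    rw [h, Subgroup.mem_bot] at hz
    exact hz1 (Subtype.ext hz)
  obtain ⟨w, hw, hwo⟩ := exists_orderOf_eq_of_ne_bot (T ⊓ Subgroup.centralizer (S : Set G))
    (hS.to_le (inf_le_left.trans hTS)) hW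
  exact ⟨w, hw.1, hwo, fun s hs => Subgroup.mem_centralizer_iff.mp hw.2 s hs⟩

end Cfsg.Agent.H54
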