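import Mathlib
import Cfsg.Prelude.Def_LocalStructure
import Cfsg.Prelude.Def_PLocal
import Cfsg.Agent.H54.CharP2
import Cfsg.Agent.H54.PGroup

set_option autoImplicit false

namespace Cfsg.Agent.H54

section basics

variable {G : Type*} [Group G] {p : ℕ}

theorem omegaOne_le (H : Subgroup G) : Cfsg.omegaOne p H ≤ H := by
  unfold Cfsg.omegaOne
  rw [Subgroup.closure_le]
  intro x hx
  exact hx.1

theorem mem_omegaOne {H : Subgroup G} {x : G} (hx : x ∈ H) (hxp : x ^ p = 1) :
    x ∈ Cfsg.omegaOne p H :=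
  Subgroup.subset_closure ⟨hx, hxp⟩

theorem centralizer_singleton_eq_centralizer_zpowers (z : G) :
    Subgroup.centralizer ({z} : Set G) =
      Subgroup.centralizer ((Subgroup.zpowers z : Subgroup G) : Set G) := by
  apply le_antisymm
  · intro y hy
    rw [Subgroup.mem_centralizer_iff] at hy ⊢
    intro w hw
    obtain ⟨n, rfl⟩ := Subgroup.mem_zpowers_iff.mp hw
    have hc : Commute y z := (hy z rfl).symm
    exact (hc.zpow_right n).eq.symm
  · apply Subgroup.centralizer_le
    rw [Set.singleton_subset_iff]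
    exact Subgroup.mem_zpowers z

/-- Characteristic `p` is invariant under conjugation of subgroups. -/
theorem charP_conj (H : Subgroup G) (g : G) (hH : CharP p ↥H) :
    CharP p ↥(H.map (MulAut.conj g).toMonoidHom) :=
  charP_of_equiv (H.equivMapOfInjective _ (MulAut.conj g).injective) hH

theorem map_conj_map_conj_inv (H : Subgroup G) (g : G) :
    (H.map (MulAut.conj g⁻¹).toMonoidHom).map (MulAut.conj g).toMonoidHom = H := by
  rw [Subgroup.map_map]
  have : (MulAut.conj g).toMonoidHom.comp (MulAut.conj g⁻¹).toMonoidHom = MonoidHom.id G := by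
    ext x
    simp [MulAut.conj_apply, mul_assoc]
  rw [this, Subgroup.map_id]

/-- Transport of characteristic `p` from `C_G(z) ∩ N` to the centralizer computed inside the
normal subgroup `N`. -/
theorem charP_centralizer_subtype [Finite G] [Fact p.Prime] (N : Subgroup G) [hN : N.Normal] (z : N)
    (hC : CharP p ↥(Subgroup.centralizer ({(z : G)} : Set G))) :
    CharP p ↥(Subgroup.centralizer ({z} : Set ↥N)) := by
  have heq : (Subgroup.centralizer ({z} : Set ↥N)).map N.subtype =
      Subgroup.centralizer ({(z : G)} : Set G) ⊓ N := by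
    ext x
    constructor
    · rintro ⟨y, hy, rfl⟩
      refine ⟨Subgroup.mem_centralizer_iff.mpr ?_, y.2⟩
      intro w hw
      rw [Set.mem_singleton_iff] at hw; subst hw
      exact congrArg Subtype.val (Subgroup.mem_centralizer_iff.mp hy z rfl)
    · rintro ⟨hx1, hx2⟩
      refine ⟨⟨x, hx2⟩, Subgroup.mem_centralizer_iff.mpr ?_, rfl⟩
      intro w hw
      rw [Set.mem_singleton_iff] at hw; subst hw
      exact Subtype.ext (Subgroup.mem_centralizer_iff.mp hx1 (w : G) rfl)
  have h1 : CharP p ↥(Subgroup.centralizer ({(z : G)} : Set G) ⊓ N) := by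
    apply charP_of_normal_le inf_le_left _ hC
    apply le_normalizer_inf' Subgroup.le_normalizer
    rw [Subgroup.normalizer_eq_top]
    exact le_top
  rw [← heq] at h1
  exact charP_of_equiv
    ((Subgroup.centralizer ({z} : Set ↥N)).equivMapOfInjective N.subtype N.subtype_injective).symm h1

end basics

section sylow

variable {G : Type*} [Group G] [Finite G] {p : ℕ} [Fact p.Prime]

/-- A `p`-subgroup normalized by a Sylow `p`-subgroup is contained in it. -/
theorem le_sylow_of_le_normalizer (T : Sylow p G) (R : Subgroup G) (hR : IsPGroup p R)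
    (hn : (T : Subgroup G) ≤ Subgroup.normalizer (R : Set G)) : R ≤ T := by
  have h2 : IsPGroup p ↥((T : Subgroup G) ⊔ R) := T.isPGroup'.to_sup_of_normal_right' hR hn
  have h3 := T.is_maximal' h2 le_sup_left
  rw [← h3]
  exact le_sup_right

/-- The intersection of a Sylow `p`-subgroup with a normal subgroup `N` is a Sylow `p`-subgroup
of `N`. -/
theorem exists_sylow_map_subtype_eq_inf (S : Sylow p G) (N : Subgroup G) [hN : N.Normal] :
    ∃ T : Sylow p ↥N, (T : Subgroup ↥N).map N.subtype = (S : Subgroup G) ⊓ N := by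
  let T₀ : Sylow p ↥N := default
  obtain ⟨g, -, hg⟩ := sylow_conj_in S ⊤ le_top ((T₀ : Subgroup ↥N).map N.subtype)
    (T₀.isPGroup'.map _) le_top
  refine ⟨(MulAut.conjNormal g : MulAut ↥N) • T₀, ?_⟩
  have hle : (((MulAut.conjNormal g : MulAut ↥N) • T₀ : Sylow p ↥N) : Subgroup ↥N) ≤
      ((S : Subgroup G) ⊓ N).subgroupOf N := by
    intro x hx
    rw [Sylow.pointwise_smul_def, Subgroup.mem_pointwise_smul_iff_inv_smul_mem] at hx
    rw [Subgroup.mem_subgroupOf]
    refine ⟨?_, x.2⟩
    have h1 : g * (((MulAut.conjNormal g : MulAut ↥N)⁻¹ • x : ↥N) : G) * g⁻¹ ∈ S :=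
      hg _ ⟨_, hx, rfl⟩
    have h2 : g * (((MulAut.conjNormal g : MulAut ↥N)⁻¹ • x : ↥N) : G) * g⁻¹ = (x : G) := by
      have h3 : ((MulAut.conjNormal g : MulAut ↥N)⁻¹ • x : ↥N) = (MulAut.conjNormal g⁻¹ : MulAut ↥N) x := by
        rw [map_inv]; rfl
      rw [h3, MulAut.conjNormal_apply]
      group
    rw [h2] at h1
    exact h1
  have hp : IsPGroup p ↥(((S : Subgroup G) ⊓ N).subgroupOf N) :=
    (S.isPGroup'.to_le inf_le_left).comap_subtype
  have hmax := ((MulAut.conjNormal g : MulAut ↥N) • T₀ : Sylow p ↥N).is_maximal' hp hle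
  rw [← hmax]
  exact Subgroup.map_subgroupOf_eq_of_le inf_le_right

/-- If `G` has parabolic characteristic `p`, then `C_G(z)` has characteristic `p` for every
element `z` of order `p` in the centre of a Sylow `p`-subgroup. -/
theorem charP_centralizer_of_parabolic (hG : Cfsg.IsOfParabolicCharacteristic p G) (S : Sylow p G)
    (z : G) (hzo : orderOf z = p) (hzc : ∀ s ∈ S, s * z = z * s) :
    CharP p ↥(Subgroup.centralizer ({z} : Set G)) := by
  have hRp : IsPGroup p (Subgroup.zpowers z) := isPGroup_zpowers_of_orderOf hzo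
  have hRne : Subgroup.zpowers z ≠ ⊥ := zpowers_ne_bot_of_orderOf hzo
  have hCN : Subgroup.centralizer ({z} : Set G) ≤
      Subgroup.normalizer ((Subgroup.zpowers z : Subgroup G) : Set G) := by
    rw [centralizer_singleton_eq_centralizer_zpowers]
    exact Subgroup.centralizer_le_normalizer _
  have hpar : Cfsg.IsParabolic p (Subgroup.normalizer ((Subgroup.zpowers z : Subgroup G) : Set G)) :=
    ⟨S, fun s hs => hCN (Subgroup.mem_centralizer_iff.mpr (fun w hw => by
      rw [Set.mem_singleton_iff] at hw; subst hw; exact (hzc s hs).symm))⟩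
  have hchar : CharP p ↥(Subgroup.normalizer ((Subgroup.zpowers z : Subgroup G) : Set G)) :=
    hG _ hRp hRne hpar
  apply charP_of_normal_le hCN _ hchar
  rw [centralizer_singleton_eq_centralizer_zpowers]
  exact normalizer_le_normalizer_centralizer _

/-- Criterion for parabolic characteristic `p`: it suffices that `C_G(z)` has characteristic `p`
for the elements `z` of order `p` in the centre of one Sylow `p`-subgroup. -/
theorem parabolic_of_central (T : Sylow p G)
    (h : ∀ z ∈ T, orderOf z = p → (∀ t ∈ T, t * z = z * t) →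
      CharP p ↥(Subgroup.centralizer ({z} : Set G))) :
    Cfsg.IsOfParabolicCharacteristic p G := by
  intro R hR hRne ⟨T', hT'⟩
  obtain ⟨g, hg⟩ := MulAction.exists_smul_eq G T T'
  -- R' = g⁻¹ R g is normalized by T
  have hTn : (T : Subgroup G) ≤
      Subgroup.normalizer ((R.map (MulAut.conj g⁻¹).toMonoidHom : Subgroup G) : Set G) := by
    intro t ht
    have h1 : g * t * g⁻¹ ∈ (T' : Subgroup G) := by
      rw [← hg, Sylow.coe_subgroup_smul]
      exact ⟨t, ht, by simp [MulAut.conj_apply]⟩
    have h2 := conj_mem_normalizer_map_conj R g⁻¹ (hT' h1)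
    have h3 : g⁻¹ * (g * t * g⁻¹) * g⁻¹⁻¹ = t := by group
    rwa [h3] at h2
  have hR'p : IsPGroup p (R.map (MulAut.conj g⁻¹).toMonoidHom) := isPGroup_map_conj R g⁻¹ hR
  have hR'ne : R.map (MulAut.conj g⁻¹).toMonoidHom ≠ ⊥ := map_conj_ne_bot R g⁻¹ hRne
  have hR'T : R.map (MulAut.conj g⁻¹).toMonoidHom ≤ T := le_sylow_of_le_normalizer T _ hR'p hTn
  obtain ⟨z, hzR, hzo, hzc⟩ := exists_central_orderOf_of_normal_ne_bot (T : Subgroup G) _
    T.isPGroup' hR'T hTn hR'ne
  have h1 : CharP p ↥(Subgroup.normalizer ((R.map (MulAut.conj g⁻¹).toMonoidHom : Subgroup G) : Set G)) :=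
    charP_normalizer_of_centralizer_elt _ hR'p z hzR (fun x hx => hzc x (hR'T hx))
      (h z (hR'T hzR) hzo hzc)
  have h2 := charP_conj _ g h1
  rw [Subgroup.map_equiv_normalizer_eq _ (MulAut.conj g)] at h2
  have h3 : (R.map (MulAut.conj g⁻¹).toMonoidHom).map (MulAut.conj g).toMonoidHom = R :=
    map_conj_map_conj_inv R g
  rw [h3] at h2
  exact h2

end sylow

end Cfsg.Agent.H54
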