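import Mathlib
import Cfsg.Agent.H49.PtDefs
import Cfsg.Agent.H77.TmDefs2
import Cfsg.Agent.H49.InvOmega
import Cfsg.Agent.H54.TmCommon

/-!
# S5973-MEVEN (helper54, for helper49's S5973 project; plus twin of S5987-MEVEN)
-/

set_option autoImplicit false
open scoped MatrixGroups
open scoped Matrix

namespace Cfsg.Agent.H54.Pt

open Cfsg.Agent.H45 Cfsg.Agent.H42.Spd Cfsg.Agent.H42.Ti Cfsg.Agent.H49.Pt
  Cfsg.Agent.H54.TmC Module Polynomial
open Cfsg.Agent.H77.Tm (TS pol QCtx StQStruct StQWitt StTypeU StComplPlus)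

universe u

/-- S5973-MEVEN. -/
theorem mEven (hQS : StQStruct.{u, u}) (hW : StQWitt.{u, u}) (hTU : StTypeU.{u, u})
    (hCP : StComplPlus.{u, u}) : Cfsg.Agent.H49.Pt.StMEven.{u} := by
  intro F _ _ p _ _ d r hr hr2 hrp hev Φs hΦ y hy hyr
  obtain ⟨Q, hQdef⟩ : ∃ Q : QuadraticForm F (Fin d ⊕ Fin d → F), Q = Cfsg.Agent.H49.QP d F :=
    ⟨_, rfl⟩
  obtain ⟨T, hTdef⟩ : ∃ T : Module.End F (Fin d ⊕ Fin d → F),
      T = Matrix.toLin' (y : Matrix (Fin d ⊕ Fin d) (Fin d ⊕ Fin d) F) := ⟨_, rfl⟩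
  have hctx : QCtx r Q T := by
    rw [hQdef, hTdef]
    exact qctx_toLin' p _ (Cfsg.Agent.H49.QP_nondeg d F) r hr hr2 hrp y hy hyr
  have hts_le : ∀ M : Submodule F (Fin d ⊕ Fin d → F), TS Q M → finrank F ↥M ≤ d := by
    intro M hM
    rw [hQdef] at hM
    exact Cfsg.Agent.H49.IsTS.finrank_le_half (Cfsg.Agent.H49.QP_nondeg d F)
      (Cfsg.Agent.H49.finrank_plus d F) hM
  have hU0ts : TS Q (Cfsg.Agent.H49.U0 d F) := by
    rw [hQdef]
    exact Cfsg.Agent.H49.U0_ts d F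
  have hU0dim : finrank F ↥(Cfsg.Agent.H49.U0 d F) = d := Cfsg.Agent.H49.finrank_U0 d F
  obtain ⟨⟨hCU, hCUtop, hperp, hCnd, hUnd⟩, ⟨A, hA⟩, hUp, hEx⟩ :=
    hQS F (Fin d ⊕ Fin d → F) r Q T hctx
  rw [cc_eq_ii r hev] at hA
  obtain ⟨hTUe, hTUo⟩ := hTU F (Fin d ⊕ Fin d → F) r Q T hctx hev A hA
  obtain ⟨h, hh⟩ := hev
  have hi2 : ii F r / 2 = h := by omega
  have hiA : ii F r * A = h * A + h * A := by rw [hh]; ring
  have hdim : finrank F (Fin d ⊕ Fin d → F) = 2 * d := Cfsg.Agent.H49.finrank_plus d F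
  have hrn := LinearMap.finrank_range_add_finrank_ker (T - 1)
  have hfix : fixDim d y = finrank F ↥(LinearMap.ker (T - 1)) := by rw [hTdef]; rfl
  have hperp' : ∀ c ∈ LinearMap.range (T - 1), ∀ u ∈ LinearMap.ker (T - 1),
      QuadraticMap.polar ⇑Q c u = 0 := by
    intro c hc u hu
    rw [QuadraticMap.polar_comm]
    exact hperp u hu c hc
  have htop1 : finrank F ↥(LinearMap.ker (T - 1) ⊔ LinearMap.range (T - 1)) = 2 * d := by
    rw [hCUtop, finrank_top, hdim]
  have htop2 : finrank F ↥(LinearMap.range (T - 1) ⊔ LinearMap.ker (T - 1)) = 2 * d := by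
    rw [sup_comm, htop1]
  -- for `A` odd the fixed space has no totally singular subspace of half dimension
  have hCodd : Odd A → ∀ J : Submodule F (Fin d ⊕ Fin d → F), J ≤ LinearMap.ker (T - 1) →
      TS Q J → finrank F ↥J + h * A + 1 ≤ d := by
    intro hAo J hJC hJts
    by_contra hcon
    push Not at hcon
    obtain ⟨J', hJ'le, hJ'dim⟩ := Cfsg.Agent.H49.exists_le_finrank_eq' J (d - h * A) (by omega)
    obtain ⟨N, hNU, hNts, hN2⟩ := hCP F (Fin d ⊕ Fin d → F) Q (LinearMap.range (T - 1))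
      (LinearMap.ker (T - 1)) J' (Cfsg.Agent.H49.U0 d F) hperp' hCnd (hJ'le.trans hJC)
      (fun x hx => hJts x (hJ'le hx)) (by omega)
      (by rw [sup_comm, hCUtop]; exact le_top) hU0ts (by omega)
    have := hTUo hAo N hNU hNts
    omega
  refine ⟨A, ?_, ?_, ?_, ?_⟩
  · rw [hfix]
    omega
  · intro hAo
    have h1 := hCodd hAo ⊥ bot_le (fun x hx => by
      rw [Submodule.mem_bot] at hx
      rw [hx, QuadraticMap.map_zero])
    rw [finrank_bot] at h1
    rw [hi2]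
    omega
  · -- existence
    intro j w hj hw
    rw [hi2] at hw
    obtain ⟨WU, hWUle, hWUinv, hWUts, hWUdim⟩ := hEx j
      (fun ho => absurd (⟨h, hh⟩ : Even (ii F r)) (Nat.not_even_iff_odd.mpr ho))
      (fun _ => by
        rcases hj with hj | hj
        · left; exact hj
        · right
          rw [hA]
          exact Nat.mul_le_mul_left _ (by omega))
    have hJ : ∃ J : Submodule F (Fin d ⊕ Fin d → F), J ≤ LinearMap.ker (T - 1) ∧ TS Q J ∧
        finrank F ↥J = w := by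
      by_cases hAo : Odd A
      · rw [if_pos hAo] at hw
        exact hW F (Fin d ⊕ Fin d → F) Q (LinearMap.ker (T - 1)) w hCnd (by omega)
      · rw [if_neg hAo] at hw
        have hAe : Even A := Nat.not_odd_iff_even.mp hAo
        obtain ⟨L, hLU, hLts, hL2⟩ := hTUe hAe
        obtain ⟨N, hNC, hNts, hN2⟩ := hCP F (Fin d ⊕ Fin d → F) Q (LinearMap.ker (T - 1))
          (LinearMap.range (T - 1)) L (Cfsg.Agent.H49.U0 d F) hperp hUnd hLU hLts hL2
          (by rw [hCUtop]; exact le_top) hU0ts (by omega)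
        obtain ⟨J, hJle, hJdim⟩ := Cfsg.Agent.H49.exists_le_finrank_eq' N w (by omega)
        exact ⟨J, hJle.trans hNC, fun x hx => hNts x (hJle hx), hJdim⟩
    obtain ⟨J, hJC, hJts, hJdim⟩ := hJ
    refine ⟨J ⊔ WU, ?_, ?_, ?_⟩
    · rw [finrank_sup_disj _ _ J WU hCU hJC hWUle, hJdim, hWUdim]
      omega
    · have h1 := ts_sup Q _ _ J WU hperp hJC hWUle hJts hWUts
      rw [hQdef] at h1
      exact h1
    · have h1 := invt_sup T J WU hJC hWUinv
      rw [hTdef] at h1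
      exact h1
  · -- upper bound
    intro W hWts hWinv
    have hWts' : TS Q W := by rw [hQdef]; exact hWts
    have hWinv' : W ∈ T.invtSubmodule := by
      apply invt_of_map_le
      rw [hTdef]
      exact hWinv
    obtain ⟨s, hs1, -, hs3⟩ := hUp W hWinv' hWts'
    refine ⟨s, finrank F ↥(W ⊓ LinearMap.ker (T - 1)), ?_, ?_, ?_⟩
    · rw [hs1]
      omega
    · have h1 := hs3 ⟨h, hh⟩ Φs hΦ
      rw [hTdef] at h1
      exact h1
    · rw [hi2]
      have hWCts : TS Q (W ⊓ LinearMap.ker (T - 1)) := fun x hx => hWts' x hx.1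
      by_cases hAo : Odd A
      · rw [if_pos hAo]
        exact hCodd hAo _ inf_le_right hWCts
      · rw [if_neg hAo]
        have hAe : Even A := Nat.not_odd_iff_even.mp hAo
        obtain ⟨L, hLU, hLts, hL2⟩ := hTUe hAe
        have h1 := hts_le _ (ts_sup Q _ _ (W ⊓ LinearMap.ker (T - 1)) L hperp inf_le_right hLU
          hWCts hLts)
        rw [finrank_sup_disj _ _ (W ⊓ LinearMap.ker (T - 1)) L hCU inf_le_right hLU] at h1
        omega

example (hQS : Cfsg.Agent.H77.Tm.StQStruct.{u, u}) (hW : Cfsg.Agent.H77.Tm.StQWitt.{u, u})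
    (hTU : Cfsg.Agent.H77.Tm.StTypeU.{u, u}) (hCP : Cfsg.Agent.H77.Tm.StComplPlus.{u, u}) :
    Cfsg.Agent.H49.Pt.StMEven.{u} := mEven hQS hW hTU hCP

end Cfsg.Agent.H54.Pt
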