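import Mathlib
import Cfsg.Agent.H45.S8Defs0

/-!
# S8-LA1 (helper54, for helper45's S1158 project)

The commutant in `GL₇(q)` of an element of prime order `p` with `ord_p(q) = 6` is commutative.

Proof: `V = L ⊕ W`, `L = ker (y - 1)` of dimension 1, `W = range (y - 1)` of dimension 6 without
proper non-zero `y`-invariant subspaces (fixed-point counting), so `W = K[y] w` for any non-zero
`w ∈ W`; two endomorphisms commuting with `y` then commute on `w`, hence on `W`, and on `L`.
-/

set_option autoImplicit false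

namespace Cfsg.Agent.H54.S8

open Cfsg.Agent.H45.S8

universe u v

theorem la1 : StLA1.{u, v} := by
  intro n _ _ K _ _ p hp hn hord Y hY X₁ X₂ h₁ h₂
  classical
  have : Fact p.Prime := ⟨hp⟩
  set q := Fintype.card K with hq
  have hqpos : 0 < q := Fintype.card_pos
  have hpq : ¬ p ∣ q := by
    intro h
    have h6 : p ∣ q ^ 6 - 1 := (hord 6).mpr dvd_rfl
    have h6' : p ∣ q ^ 6 := dvd_pow h (by norm_num)
    have hpos : 1 ≤ q ^ 6 := Nat.one_le_pow _ _ hqpos
    have h1 : p ∣ 1 := by
      have := Nat.dvd_sub h6' h6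
      rwa [Nat.sub_sub_self hpos] at this
    exact hp.one_lt.ne' (Nat.dvd_one.mp h1)
  let φ : Matrix n n K ≃ₐ[K] Module.End K (n → K) := Matrix.toLinAlgEquiv'
  set y : Module.End K (n → K) := φ (Y : Matrix n n K) with hy
  have hyp : y ^ p = 1 := by
    rw [hy, ← map_pow, ← Units.val_pow_eq_pow_val, ← hY, pow_orderOf_eq_one, Units.val_one,
      map_one]
  have hy1 : y ≠ 1 := by
    intro h
    have h' : (Y : Matrix n n K) = 1 := φ.injective (by rw [← hy, h, map_one])
    have hY1 : Y = 1 := Units.ext h'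
    rw [hY1, orderOf_one] at hY
    exact hp.one_lt.ne hY
  set L : Submodule K (n → K) := LinearMap.ker (y - 1) with hL
  have hLmem : ∀ v : n → K, v ∈ L ↔ y v = v := by
    intro v
    rw [hL, LinearMap.mem_ker, LinearMap.sub_apply, sub_eq_zero]
    rfl
  have hfinV : Module.finrank K (n → K) = 7 := by
    rw [Module.finrank_fintype_fun_eq_card, hn]
  -- fixed-point counting
  have keyA : ∀ U : Submodule K (n → K), (∀ u ∈ U, y u ∈ U) →
      6 ∣ Module.finrank K U - Module.finrank K ↥(U ⊓ L) := by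
    intro U hU
    let f : Function.End U := fun u => ⟨y u, hU u u.2⟩
    have hfk : ∀ (k : ℕ) (u : U), ((f ^ k) u : n → K) = (y ^ k) u := by
      intro k
      induction k with
      | zero => intro u; rfl
      | succ k ih =>
        intro u
        rw [pow_succ, pow_succ]
        show ((f ^ k) (f u) : n → K) = (y ^ k * y) u
        rw [ih]
        rfl
    have hfp : f ^ p ^ 1 = 1 := by
      rw [pow_one]
      funext u
      apply Subtype.ext
      rw [hfk, hyp]
      rfl
    have hmod := Equiv.Perm.card_fixedPoints_modEq (p := p) (n := 1) hfp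
    have e : ↥(Function.fixedPoints f) ≃ ↥(U ⊓ L) :=
      { toFun := fun u => ⟨(u.1 : n → K), Submodule.mem_inf.mpr ⟨u.1.2,
            (hLmem _).mpr (congrArg Subtype.val u.2)⟩⟩
        invFun := fun v => ⟨⟨v.1, (Submodule.mem_inf.mp v.2).1⟩,
            Subtype.ext ((hLmem _).mp (Submodule.mem_inf.mp v.2).2)⟩
        left_inv := fun u => rfl
        right_inv := fun v => rfl }
    have hU1 : Fintype.card ↥U = q ^ Module.finrank K U :=
      Module.card_eq_pow_finrank (K := K) (V := ↥U)
    have hU2 : Fintype.card ↥(U ⊓ L) = q ^ Module.finrank K ↥(U ⊓ L) :=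
      Module.card_eq_pow_finrank (K := K) (V := ↥(U ⊓ L))
    rw [Fintype.card_congr e, hU1, hU2] at hmod
    have hle : Module.finrank K ↥(U ⊓ L) ≤ Module.finrank K U :=
      Submodule.finrank_mono inf_le_left
    have hdvd : p ∣ q ^ Module.finrank K U - q ^ Module.finrank K ↥(U ⊓ L) :=
      (Nat.modEq_iff_dvd' (Nat.pow_le_pow_right hqpos hle)).mp hmod.symm
    obtain ⟨c, hc⟩ := Nat.exists_eq_add_of_le hle
    rw [hc, pow_add] at hdvd
    have e2 : q ^ Module.finrank K ↥(U ⊓ L) * q ^ c - q ^ Module.finrank K ↥(U ⊓ L) =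
        q ^ Module.finrank K ↥(U ⊓ L) * (q ^ c - 1) := by
      rw [Nat.mul_sub, mul_one]
    rw [e2] at hdvd
    have hcop : Nat.Coprime p (q ^ Module.finrank K ↥(U ⊓ L)) :=
      Nat.Coprime.pow_right _ ((Nat.Prime.coprime_iff_not_dvd hp).mpr hpq)
    have h3 := hcop.dvd_of_dvd_mul_left hdvd
    rw [hc, Nat.add_sub_cancel_left]
    exact (hord c).mp h3
  have hcomm_sub : ∀ X : Module.End K (n → K), X * y = y * X → X * (y - 1) = (y - 1) * X := by
    intro X h
    rw [mul_sub, sub_mul, h, mul_one, one_mul]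
  have hLinv : ∀ X : Module.End K (n → K), X * y = y * X → ∀ v ∈ L, X v ∈ L := by
    intro X h v hv
    rw [hLmem] at hv ⊢
    have h' := congrArg (fun g : Module.End K (n → K) => g v) h
    simp only [Module.End.mul_apply] at h'
    rw [← h', hv]
  have hLdim : Module.finrank K L = 1 := by
    have h6 := keyA ⊤ (fun u _ => Submodule.mem_top)
    rw [top_inf_eq, finrank_top, hfinV] at h6
    have hle : Module.finrank K L ≤ 7 := by
      rw [← hfinV]; exact Submodule.finrank_le L
    have hne : Module.finrank K L ≠ 7 := by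
      intro h
      have hLtop : L = ⊤ := Submodule.eq_top_of_finrank_eq (by rw [h, hfinV])
      apply hy1
      apply LinearMap.ext
      intro v
      have hv : v ∈ L := hLtop ▸ Submodule.mem_top
      exact (hLmem v).mp hv
    omega
  set W : Submodule K (n → K) := LinearMap.range (y - 1) with hW
  have hWdim : Module.finrank K W = 6 := by
    have h' := LinearMap.finrank_range_add_finrank_ker (y - 1)
    rw [← hL, ← hW, hLdim, hfinV] at h'
    omega
  have hWinv : ∀ X : Module.End K (n → K), X * y = y * X → ∀ v ∈ W, X v ∈ W := by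
    intro X h v hv
    obtain ⟨u, rfl⟩ := hv
    refine ⟨X u, ?_⟩
    have h' := congrArg (fun g : Module.End K (n → K) => g u) (hcomm_sub X h)
    simp only [Module.End.mul_apply] at h'
    exact h'.symm
  have hWL : W ⊓ L = ⊥ := by
    have h6 := keyA W (hWinv y rfl)
    have hle : Module.finrank K ↥(W ⊓ L) ≤ 1 := by
      rw [← hLdim]; exact Submodule.finrank_mono inf_le_right
    rw [hWdim] at h6
    have h0 : Module.finrank K ↥(W ⊓ L) = 0 := by omega
    exact Submodule.finrank_eq_zero.mp h0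
  have hsup : W ⊔ L = ⊤ := by
    apply Submodule.eq_top_of_finrank_eq
    have h' := Submodule.finrank_sup_add_finrank_inf_eq W L
    rw [hWL, finrank_bot, hWdim, hLdim] at h'
    rw [hfinV]
    omega
  have hirr : ∀ U : Submodule K (n → K), U ≤ W → (∀ u ∈ U, y u ∈ U) → U ≠ ⊥ → U = W := by
    intro U hUW hU hne
    have h6 := keyA U hU
    have h0 : U ⊓ L = ⊥ := by
      rw [eq_bot_iff, ← hWL]
      exact inf_le_inf_right L hUW
    rw [h0, finrank_bot, Nat.sub_zero] at h6
    have hle : Module.finrank K U ≤ 6 := by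
      rw [← hWdim]; exact Submodule.finrank_mono hUW
    have hpos : Module.finrank K U ≠ 0 := fun h => hne (Submodule.finrank_eq_zero.mp h)
    have h66 : Module.finrank K U = 6 := by omega
    exact Submodule.eq_of_le_of_finrank_eq hUW (by rw [h66, hWdim])
  have hWne : W ≠ ⊥ := by
    intro h
    rw [h, finrank_bot] at hWdim
    omega
  obtain ⟨w, hwW, hw0⟩ := Submodule.exists_mem_ne_zero_of_ne_bot hWne
  set A : Subalgebra K (Module.End K (n → K)) := Algebra.adjoin K {y} with hA
  have hAcomm : ∀ f ∈ A, ∀ X : Module.End K (n → K), X * y = y * X → f * X = X * f := by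
    intro f hf X hX
    have h1 := Algebra.adjoin_le_centralizer_centralizer K ({y} : Set (Module.End K (n → K))) hf
    rw [Subalgebra.mem_centralizer_iff] at h1
    have hXc : X ∈ Subalgebra.centralizer K ({y} : Set (Module.End K (n → K))) := by
      rw [Subalgebra.mem_centralizer_iff]
      intro g hg
      rw [Set.mem_singleton_iff] at hg
      rw [hg]
      exact hX.symm
    exact (h1 X hXc).symm
  have hAy : ∀ f ∈ A, f * y = y * f := fun f hf => hAcomm f hf y rfl
  set S : Submodule K (n → K) := Submodule.map (LinearMap.applyₗ w) A.toSubmodule with hS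
  have hSmem : ∀ x, x ∈ S ↔ ∃ f ∈ A, f w = x := by
    intro x
    rw [hS, Submodule.mem_map]
    constructor
    · rintro ⟨f, hf, rfl⟩
      exact ⟨f, hf, rfl⟩
    · rintro ⟨f, hf, rfl⟩
      exact ⟨f, hf, rfl⟩
  have hSW : S ≤ W := by
    intro x hx
    obtain ⟨f, hf, rfl⟩ := (hSmem x).mp hx
    exact hWinv f (hAy f hf) w hwW
  have hSinv : ∀ u ∈ S, y u ∈ S := by
    intro u hu
    obtain ⟨f, hf, rfl⟩ := (hSmem u).mp hu
    exact (hSmem _).mpr ⟨y * f, A.mul_mem (Algebra.subset_adjoin (Set.mem_singleton y)) hf, rfl⟩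
  have hSne : S ≠ ⊥ := by
    intro h
    have h' : w ∈ S := (hSmem w).mpr ⟨1, A.one_mem, rfl⟩
    rw [h, Submodule.mem_bot] at h'
    exact hw0 h'
  have hSeq : S = W := hirr S hSW hSinv hSne
  set x₁ : Module.End K (n → K) := φ (X₁ : Matrix n n K) with hx₁
  set x₂ : Module.End K (n → K) := φ (X₂ : Matrix n n K) with hx₂
  have hx₁y : x₁ * y = y * x₁ := by
    rw [hx₁, hy, ← map_mul, ← map_mul, ← Units.val_mul, ← Units.val_mul, h₁]
  have hx₂y : x₂ * y = y * x₂ := by
    rw [hx₂, hy, ← map_mul, ← map_mul, ← Units.val_mul, ← Units.val_mul, h₂]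
  have hZ : x₁ * x₂ = x₂ * x₁ := by
    have hZy : (x₁ * x₂ - x₂ * x₁) * y = y * (x₁ * x₂ - x₂ * x₁) := by
      rw [sub_mul, mul_sub, mul_assoc, hx₂y, ← mul_assoc, hx₁y, mul_assoc, mul_assoc x₂, hx₁y,
        ← mul_assoc x₂, hx₂y, mul_assoc]
    have hm₁ : x₁ w ∈ S := by rw [hSeq]; exact hWinv x₁ hx₁y w hwW
    have hm₂ : x₂ w ∈ S := by rw [hSeq]; exact hWinv x₂ hx₂y w hwW
    obtain ⟨f₁, hf₁, hf₁w⟩ := (hSmem (x₁ w)).mp hm₁
    obtain ⟨f₂, hf₂, hf₂w⟩ := (hSmem (x₂ w)).mp hm₂
    have hZw : (x₁ * x₂ - x₂ * x₁) w = 0 := by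
      have e1 : x₁ (x₂ w) = f₂ (f₁ w) := by
        rw [← hf₂w]
        have h' := congrArg (fun g : Module.End K (n → K) => g w) (hAcomm f₂ hf₂ x₁ hx₁y)
        simp only [Module.End.mul_apply] at h'
        rw [← h', hf₁w]
      have e2 : x₂ (x₁ w) = f₁ (f₂ w) := by
        rw [← hf₁w]
        have h' := congrArg (fun g : Module.End K (n → K) => g w) (hAcomm f₁ hf₁ x₂ hx₂y)
        simp only [Module.End.mul_apply] at h'
        rw [← h', hf₂w]
      have e3 : f₂ (f₁ w) = f₁ (f₂ w) := by
        have h' := congrArg (fun g : Module.End K (n → K) => g w)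
          (hAcomm f₂ hf₂ f₁ (hAy f₁ hf₁))
        simpa only [Module.End.mul_apply] using h'
      rw [LinearMap.sub_apply, Module.End.mul_apply, Module.End.mul_apply, e1, e2, e3, sub_self]
    have hZW : ∀ v ∈ W, (x₁ * x₂ - x₂ * x₁) v = 0 := by
      intro v hv
      rw [← hSeq] at hv
      obtain ⟨f, hf, rfl⟩ := (hSmem v).mp hv
      have h' := congrArg (fun g : Module.End K (n → K) => g w) (hAcomm f hf _ hZy)
      simp only [Module.End.mul_apply] at h'
      rw [← h', hZw, map_zero]
    have hZL : ∀ v ∈ L, (x₁ * x₂ - x₂ * x₁) v = 0 := by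
      obtain ⟨l, hl0, hl⟩ := finrank_eq_one_iff'.mp hLdim
      have hsc : ∀ X : Module.End K (n → K), X * y = y * X →
          ∃ c : K, X (l : n → K) = c • (l : n → K) := by
        intro X hX
        obtain ⟨c, hc⟩ := hl ⟨X l, hLinv X hX l l.2⟩
        refine ⟨c, ?_⟩
        have h' := congrArg Subtype.val hc
        exact h'.symm
      obtain ⟨c₁, hc₁⟩ := hsc x₁ hx₁y
      obtain ⟨c₂, hc₂⟩ := hsc x₂ hx₂y
      intro v hv
      obtain ⟨c, hc⟩ := hl ⟨v, hv⟩
      have hv' : v = c • (l : n → K) := (congrArg Subtype.val hc).symm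
      have hl' : (x₁ * x₂ - x₂ * x₁) (l : n → K) = 0 := by
        rw [LinearMap.sub_apply, Module.End.mul_apply, Module.End.mul_apply, hc₂, hc₁, map_smul,
          map_smul, hc₁, hc₂, smul_smul, smul_smul, mul_comm, sub_self]
      rw [hv', map_smul, hl', smul_zero]
    rw [← sub_eq_zero]
    apply LinearMap.ext
    intro v
    have hv : v ∈ W ⊔ L := hsup ▸ Submodule.mem_top
    obtain ⟨a, ha, b, hb, rfl⟩ := Submodule.mem_sup.mp hv
    rw [map_add, hZW a ha, hZL b hb, add_zero]
    rfl
  apply Units.ext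
  apply φ.injective
  rw [Units.val_mul, Units.val_mul, map_mul, map_mul]
  exact hZ

example : StLA1.{u, v} := la1

end Cfsg.Agent.H54.S8
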