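/-
helper54 library (S2086-IND, for helper91): for a central extension `ρ : E → SL_n(K)` in which
lifts of commuting elementary matrices commute, `[lift x_ih(1), lift x_hj(a)]` does not depend
on the middle index `h`.
-/
import Mathlib
import Cfsg.Agent.H91.SMDefs
import Cfsg.Agent.H85.StLin

set_option autoImplicit false

namespace Cfsg.Agent.H54.SM

open Matrix Subgroup Cfsg.Agent.H91.SM
open scoped commutatorElement

universe u v

/-- The commutator of two elementary matrices. -/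
theorem comm_tv {n : ℕ} {K : Type*} [Field K] {i j k : Fin n} (hij : i ≠ j) (hjk : j ≠ k)
    (hik : i ≠ k) (a b : K) : ⁅(tv hij a : SLn n K), tv hjk b⁆ = tv hik (a * b) := by
  rw [commutatorElement_def, Cfsg.Agent.H85.StLin.tr_inv, Cfsg.Agent.H85.StLin.tr_inv]
  exact Cfsg.Agent.H45.transvection_comm_rel hij hjk hik a b

/-- Conjugation by an element depends only on its image under a map with central kernel. -/
theorem conj_congr {E G : Type*} [Group E] [Group G] (ρ : E →* G) (hc : ρ.ker ≤ center E)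
    {x x' : E} (hx : ρ x = ρ x') (y : E) : x * y * x⁻¹ = x' * y * x'⁻¹ := by
  have hz1 : x'⁻¹ * x ∈ center E :=
    hc (by rw [MonoidHom.mem_ker, map_mul, map_inv, hx, inv_mul_cancel])
  have hz := Subgroup.mem_center_iff.mp hz1 y
  calc x * y * x⁻¹ = x' * ((x'⁻¹ * x) * y) * x⁻¹ := by group
    _ = x' * (y * (x'⁻¹ * x)) * x⁻¹ := by rw [hz]
    _ = x' * y * x'⁻¹ := by group

/-- Commutators depend only on the images under a map with central kernel. -/
theorem comm_congr {E G : Type*} [Group E] [Group G] (ρ : E →* G) (hc : ρ.ker ≤ center E)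
    {x x' y y' : E} (hx : ρ x = ρ x') (hy : ρ y = ρ y') : ⁅x, y⁆ = ⁅x', y'⁆ := by
  have h1 : y * x'⁻¹ * y⁻¹ = y' * x'⁻¹ * y'⁻¹ := conj_congr ρ hc hy x'⁻¹
  calc ⁅x, y⁆ = x * y * x⁻¹ * y⁻¹ := commutatorElement_def x y
    _ = x' * y * x'⁻¹ * y⁻¹ := by rw [conj_congr ρ hc hx y]
    _ = x' * (y * x'⁻¹ * y⁻¹) := by group
    _ = x' * (y' * x'⁻¹ * y'⁻¹) := by rw [h1]
    _ = x' * y' * x'⁻¹ * y'⁻¹ := by group
    _ = ⁅x', y'⁆ := (commutatorElement_def x' y').symm

/-- **S2086-IND**. -/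
theorem ind (hI : IdStmt.{v}) : IndStmt.{u, v} := by
  intro n K _ E _ ρ hsurj hker hComm i j h k hih hhj hik hkj hij hhk a u v u' v' hu hv hu' hv'
  obtain ⟨p, hp⟩ := hsurj (tv hhk 1)
  have h1 : ρ ⁅u, p⁆ = tv hik 1 := by
    rw [map_commutatorElement, hu, hp, comm_tv hih hhk hik, mul_one]
  have h2 : ρ ⁅p, v'⁆ = tv hhj a := by
    rw [map_commutatorElement, hp, hv', comm_tv hhk hkj hhj, one_mul]
  have h3 : ρ ⁅⁅u, p⁆, v'⁆ = tv hij a := by
    rw [map_commutatorElement, h1, hv', comm_tv hik hkj hij, one_mul]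
  have e1 : ⁅u, v⁆ = ⁅u, ⁅p, v'⁆⁆ := comm_congr ρ hker rfl (by rw [hv, h2])
  have e2 : ⁅u', v'⁆ = ⁅⁅u, p⁆, v'⁆ := comm_congr ρ hker (by rw [hu', h1]) rfl
  rw [e1, e2]
  apply hI u p v'
  · exact hComm i h k j hih hkj hij hhk 1 a u v' hu hv'
  · exact hComm i k h j hik hhj hij (Ne.symm hhk) 1 a _ _ h1 h2
  · exact hComm h j i j hhj hij hhj (Ne.symm hij) a a _ _ h2 h3

end Cfsg.Agent.H54.SM

section Check

open Cfsg.Agent.H91.SM

universe u v

example (hI : IdStmt.{v}) : IndStmt.{u, v} := Cfsg.Agent.H54.SM.ind hI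

end Check
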