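import Mathlib
import Cfsg.Agent.H97.SuRDefs

set_option autoImplicit false

/-!
# S2282-COHA (team piece for helper97): a cocycle `SL_k(F) → F^k` is a coboundary on the
diagonal elements
-/

namespace Cfsg.Agent.H54.SuR

open Matrix Cfsg.Agent.H45.U Cfsg.Agent.H97.SuR

variable {F : Type*} [Field F]

/-- In a finite type, a finset of smaller cardinality misses some element. -/
theorem exists_notMem_of_card {α : Type*} [Fintype α] (s : Finset α)
    (h : s.card < Fintype.card α) : ∃ x, x ∉ s := by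
  by_contra hne
  push Not at hne
  have hsub : (Finset.univ : Finset α) ⊆ s := fun x _ => hne x
  have hle := Finset.card_le_card hsub
  rw [Finset.card_univ] at hle
  omega

/-- The diagonal element of `SL_k(F)` with a given diagonal of product `1`. -/
def diagSL {k : ℕ} (d : Fin k → F) (hd : ∏ i, d i = 1) : Matrix.SpecialLinearGroup (Fin k) F :=
  ⟨Matrix.diagonal d, by rw [Matrix.det_diagonal, hd]⟩

theorem diagSL_isDiag {k : ℕ} (d : Fin k → F) (hd : ∏ i, d i = 1) : IsDiag (diagSL d hd) := by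
  intro i j hij
  exact Matrix.diagonal_apply_ne _ hij

theorem diagSL_apply {k : ℕ} (d : Fin k → F) (hd : ∏ i, d i = 1) (j : Fin k) :
    ((diagSL d hd : Matrix.SpecialLinearGroup (Fin k) F) : Matrix (Fin k) (Fin k) F) j j = d j :=
  Matrix.diagonal_apply_eq _ _

/-- The inverse of a diagonal element of `SL_k(F)` is diagonal, with inverse entries. -/
theorem inv_of_isDiag {k : ℕ} (g : Matrix.SpecialLinearGroup (Fin k) F) (hg : IsDiag g) :
    (∀ i j : Fin k, i ≠ j →
      ((g⁻¹ : Matrix.SpecialLinearGroup (Fin k) F) : Matrix (Fin k) (Fin k) F) i j = 0) ∧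
    ∀ j : Fin k, ((g⁻¹ : Matrix.SpecialLinearGroup (Fin k) F) : Matrix (Fin k) (Fin k) F) j j *
      (g : Matrix (Fin k) (Fin k) F) j j = 1 := by
  have h1 : ((g⁻¹ : Matrix.SpecialLinearGroup (Fin k) F) : Matrix (Fin k) (Fin k) F) *
      (g : Matrix (Fin k) (Fin k) F) = 1 := by
    rw [← Matrix.SpecialLinearGroup.coe_mul, inv_mul_cancel, Matrix.SpecialLinearGroup.coe_one]
  have h2 : ∀ i j, ((g⁻¹ : Matrix.SpecialLinearGroup (Fin k) F) : Matrix (Fin k) (Fin k) F) i j *
      (g : Matrix (Fin k) (Fin k) F) j j = (1 : Matrix (Fin k) (Fin k) F) i j := by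
    intro i j
    rw [← h1, Matrix.mul_apply]
    symm
    apply Finset.sum_eq_single j
    · intro l _ hl
      rw [hg l j hl, mul_zero]
    · intro h
      exact absurd (Finset.mem_univ j) h
  refine ⟨?_, ?_⟩
  · intro i j hij
    have h3 := h2 i j
    rw [Matrix.one_apply_ne hij] at h3
    have h4 := h2 j j
    rw [Matrix.one_apply_eq] at h4
    have hne : (g : Matrix (Fin k) (Fin k) F) j j ≠ 0 := by
      intro h0
      rw [h0, mul_zero] at h4
      exact zero_ne_one h4
    exact (mul_eq_zero.1 h3).resolve_right hne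
  · intro j
    have h4 := h2 j j
    rwa [Matrix.one_apply_eq] at h4

/-- A diagonal matrix times a column. -/
theorem diag_mul_col {k : ℕ} (D : Matrix (Fin k) (Fin k) F) (hD : ∀ i j, i ≠ j → D i j = 0)
    (v : Matrix (Fin k) (Fin 1) F) (m : Fin k) (z : Fin 1) : (D * v) m z = D m m * v m z := by
  rw [Matrix.mul_apply]
  apply Finset.sum_eq_single m
  · intro l _ hl
    rw [hD m l (Ne.symm hl), zero_mul]
  · intro h
    exact absurd (Finset.mem_univ m) h

/-- A diagonal element of `SL_k(F)` is the diagonal matrix of its diagonal. -/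
theorem isDiag_eq {k : ℕ} (g : Matrix.SpecialLinearGroup (Fin k) F) (hg : IsDiag g) :
    (g : Matrix (Fin k) (Fin k) F) =
      Matrix.diagonal (fun i => (g : Matrix (Fin k) (Fin k) F) i i) := by
  ext i j
  by_cases h : i = j
  · subst h
    rw [Matrix.diagonal_apply_eq]
  · rw [Matrix.diagonal_apply_ne _ h, hg i j h]

/-- Diagonal elements of `SL_k(F)` commute. -/
theorem isDiag_comm {k : ℕ} (t u : Matrix.SpecialLinearGroup (Fin k) F) (ht : IsDiag t)
    (hu : IsDiag u) : t * u = u * t := by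
  apply Subtype.ext
  rw [Matrix.SpecialLinearGroup.coe_mul, Matrix.SpecialLinearGroup.coe_mul, isDiag_eq t ht,
    isDiag_eq u hu, Matrix.diagonal_mul_diagonal, Matrix.diagonal_mul_diagonal]
  congr 1
  funext i
  exact mul_comm _ _

/-- The row identity for two commuting elements, the second one diagonal. -/
theorem coc_row {k : ℕ} (s : Matrix.SpecialLinearGroup (Fin k) F → Matrix (Fin k) (Fin 1) F)
    (hs : Coc s) (t u : Matrix.SpecialLinearGroup (Fin k) F) (ht : IsDiag t) (hu : IsDiag u)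
    (m : Fin k) :
    (((u⁻¹ : Matrix.SpecialLinearGroup (Fin k) F) : Matrix (Fin k) (Fin k) F) m m - 1) *
        s t m 0 =
      (((t⁻¹ : Matrix.SpecialLinearGroup (Fin k) F) : Matrix (Fin k) (Fin k) F) m m - 1) *
        s u m 0 := by
  have h1 := hs t u
  have h2 := hs u t
  rw [isDiag_comm t u ht hu, h2] at h1
  have h3 := congrFun (congrFun h1 m) 0
  rw [Matrix.add_apply, Matrix.add_apply, diag_mul_col _ (inv_of_isDiag t ht).1,
    diag_mul_col _ (inv_of_isDiag u hu).1] at h3
  linear_combination -h3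

/-- S2282-COHA. -/
theorem coh_diag [Fintype F] {k : ℕ} (hk : 2 ≤ k) (hF : 3 ≤ Fintype.card F)
    (s : Matrix.SpecialLinearGroup (Fin k) F → Matrix (Fin k) (Fin 1) F) (hs : Coc s) :
    ∃ v₀ : Matrix (Fin k) (Fin 1) F, ∀ g : Matrix.SpecialLinearGroup (Fin k) F, IsDiag g →
      s g = ((g⁻¹ : Matrix.SpecialLinearGroup (Fin k) F) : Matrix (Fin k) (Fin k) F) * v₀ - v₀ := by
  classical
  obtain ⟨l, hl⟩ := exists_notMem_of_card ({0, 1} : Finset F)
    (lt_of_le_of_lt Finset.card_le_two (by omega))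
  have hl0 : l ≠ 0 := fun h => hl (by simp [h])
  have hl1 : l ≠ 1 := fun h => hl (by simp [h])
  have hnt : Nontrivial (Fin k) := Fin.nontrivial_iff_two_le.2 hk
  have hex : ∀ m : Fin k, ∃ u : Matrix.SpecialLinearGroup (Fin k) F, IsDiag u ∧
      ((u⁻¹ : Matrix.SpecialLinearGroup (Fin k) F) : Matrix (Fin k) (Fin k) F) m m - 1 ≠ 0 := by
    intro m
    obtain ⟨m', hm'⟩ := exists_ne m
    have hd : ∏ i : Fin k, ((if i = m then l else 1) * (if i = m' then l⁻¹ else 1)) = 1 := by
      rw [Finset.prod_mul_distrib, Finset.prod_ite_eq', Finset.prod_ite_eq']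
      simp [hl0]
    refine ⟨diagSL _ hd, diagSL_isDiag _ hd, ?_⟩
    have h1 := (inv_of_isDiag _ (diagSL_isDiag _ hd)).2 m
    rw [diagSL_apply] at h1
    simp only [if_true, if_neg hm'.symm, mul_one] at h1
    intro h0
    have h2 := sub_eq_zero.1 h0
    rw [h2, one_mul] at h1
    exact hl1 h1
  choose U hU1 hU2 using hex
  refine ⟨Matrix.of fun m _ => s (U m) m 0 /
    ((((U m)⁻¹ : Matrix.SpecialLinearGroup (Fin k) F) : Matrix (Fin k) (Fin k) F) m m - 1), ?_⟩
  intro g hg
  ext m z
  have hz : z = 0 := Subsingleton.elim z 0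
  subst hz
  rw [Matrix.sub_apply, diag_mul_col _ (inv_of_isDiag g hg).1, Matrix.of_apply]
  have h := coc_row s hs g (U m) hg (hU1 m) m
  have hne := hU2 m
  field_simp
  linear_combination h

end Cfsg.Agent.H54.SuR

example {F : Type*} [Field F] [Fintype F] {k : ℕ} (hk : 2 ≤ k) (hF : 3 ≤ Fintype.card F)
    (s : Matrix.SpecialLinearGroup (Fin k) F → Matrix (Fin k) (Fin 1) F)
    (hs : Cfsg.Agent.H97.SuR.Coc s) :
    ∃ v₀ : Matrix (Fin k) (Fin 1) F, ∀ g : Matrix.SpecialLinearGroup (Fin k) F,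
      Cfsg.Agent.H97.SuR.IsDiag g →
      s g = ((g⁻¹ : Matrix.SpecialLinearGroup (Fin k) F) : Matrix (Fin k) (Fin k) F) * v₀ - v₀ :=
  Cfsg.Agent.H54.SuR.coh_diag hk hF s hs
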