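import Mathlib
import Cfsg.Agent.H54.Parabolic

set_option autoImplicit false

namespace Cfsg.Agent.H54

/-- The intersection of a Sylow `p`-subgroup with a subnormal subgroup `H` is a Sylow
`p`-subgroup of `H`. -/
theorem exists_sylow_map_subtype_eq_inf_of_isSubnormal {G : Type*} [Group G] [Finite G] {p : ℕ}
    [Fact p.Prime] (S : Sylow p G) (H : Subgroup G) (hH : H.IsSubnormal) :
    ∃ T : Sylow p ↥H, (T : Subgroup ↥H).map H.subtype = (S : Subgroup G) ⊓ H := by
  induction hH with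
  | top => exact exists_sylow_map_subtype_eq_inf S ⊤
  | step H K hle hK hN ih =>
    obtain ⟨TK, hTK⟩ := ih
    obtain ⟨T', hT'⟩ := exists_sylow_map_subtype_eq_inf TK (H.subgroupOf K)
    have hrange : (T' : Subgroup ↥(H.subgroupOf K)) ≤
        ((Subgroup.subgroupOfEquivOfLe hle).symm.toMonoidHom).range := by
      intro t _
      exact ⟨Subgroup.subgroupOfEquivOfLe hle t, by simp⟩
    refine ⟨T'.comapOfInjective (Subgroup.subgroupOfEquivOfLe hle).symm.toMonoidHom
      (Subgroup.subgroupOfEquivOfLe hle).symm.injective hrange, ?_⟩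
    ext x
    constructor
    · rintro ⟨y, hy, rfl⟩
      refine ⟨?_, y.2⟩
      have hy' : (Subgroup.subgroupOfEquivOfLe hle).symm y ∈ T' := hy
      have h1 : (((Subgroup.subgroupOfEquivOfLe hle).symm y : ↥(H.subgroupOf K)) : ↥K) ∈
          (T' : Subgroup ↥(H.subgroupOf K)).map (H.subgroupOf K).subtype := ⟨_, hy', rfl⟩
      rw [hT'] at h1
      have h2 : ((((Subgroup.subgroupOfEquivOfLe hle).symm y : ↥(H.subgroupOf K)) : ↥K) : G) ∈
          (TK : Subgroup ↥K).map K.subtype := ⟨_, h1.1, rfl⟩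
      rw [hTK] at h2
      exact h2.1
    · rintro ⟨hxS, hxH⟩
      have hxK : x ∈ K := hle hxH
      have h1 : x ∈ (TK : Subgroup ↥K).map K.subtype := by rw [hTK]; exact ⟨hxS, hxK⟩
      obtain ⟨t, ht, htx⟩ := h1
      have ht' : t = ⟨x, hxK⟩ := Subtype.ext htx
      have h2 : (⟨x, hxK⟩ : ↥K) ∈ (TK : Subgroup ↥K) ⊓ H.subgroupOf K := by
        exact ⟨by rw [← ht']; exact ht, Subgroup.mem_subgroupOf.mpr hxH⟩
      rw [← hT'] at h2
      obtain ⟨t', ht', ht'x⟩ := h2
      refine ⟨⟨x, hxH⟩, ?_, rfl⟩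
      have h3 : (Subgroup.subgroupOfEquivOfLe hle).symm ⟨x, hxH⟩ = t' := by
        apply Subtype.ext
        apply Subtype.ext
        rw [Subgroup.coe_subtype] at ht'x
        rw [ht'x]
        simp
      change (Subgroup.subgroupOfEquivOfLe hle).symm ⟨x, hxH⟩ ∈ T'
      rw [h3]
      exact ht'

end Cfsg.Agent.H54
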