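import Mathlib
import Cfsg.Agent.H37.Transfer

set_option autoImplicit false

namespace Cfsg.Agent.H54

open scoped Pointwise
open Subgroup MulAction

/-- For a `p`-group acting on a finite set, an invariant subset has cardinality congruent mod `p`
to the number of fixed points it contains. -/
theorem card_invariant_modEq {P X : Type*} [Group P] [MulAction P X] [Finite X] {p : ℕ}
    [Fact p.Prime] (hP : IsPGroup p P) (B : Set X) (hB : ∀ (s : P) (x : X), x ∈ B → s • x ∈ B) :
    Nat.card B ≡ Nat.card (B ∩ MulAction.fixedPoints P X : Set X) [MOD p] := by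
  let B' : SubMulAction P X := ⟨B, fun s x hx => hB s x hx⟩
  have h1 := hP.card_modEq_card_fixedPoints B'
  have e : MulAction.fixedPoints P B' ≃ (B ∩ MulAction.fixedPoints P X : Set X) :=
    { toFun := fun x => ⟨x.1.1, x.1.2, fun s => congrArg Subtype.val (x.2 s)⟩
      invFun := fun x => ⟨⟨x.1, x.2.1⟩, fun s => Subtype.ext (x.2.2 s)⟩
      left_inv := fun x => rfl
      right_inv := fun x => rfl }
  rw [Nat.card_congr e] at h1
  exact h1

theorem eq_of_ne_one_of_card_two {A : Type*} [Group A] (hA : Nat.card A = 2) {x y : A}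
    (hx : x ≠ 1) (hy : y ≠ 1) : x = y := by
  obtain ⟨a, b, hab, huniv⟩ := Nat.card_eq_two_iff.mp hA
  have hmem : ∀ w : A, w = a ∨ w = b := by
    intro w
    have : w ∈ ({a, b} : Set A) := by rw [huniv]; trivial
    simpa using this
  rcases hmem 1 with h1 | h1 <;> rcases hmem x with h2 | h2 <;> rcases hmem y with h3 | h3
  · exact absurd (h2.trans h1.symm) hx
  · exact absurd (h2.trans h1.symm) hx
  · exact absurd (h3.trans h1.symm) hy
  · exact h2.trans h3.symm
  · exact h2.trans h3.symm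
  · exact absurd (h3.trans h1.symm) hy
  · exact absurd (h2.trans h1.symm) hx
  · exact absurd (h2.trans h1.symm) hx

/-- For a finite subgroup, conjugating it into itself is enough to normalize it. -/
theorem mem_normalizer_of_conj_mem {G : Type*} [Group G] (S : Subgroup G) [Finite S] (g : G)
    (h : ∀ s ∈ S, g * s * g⁻¹ ∈ S) : g ∈ Subgroup.normalizer (S : Set G) := by
  let f : S → S := fun s => ⟨g * s * g⁻¹, h s s.2⟩
  have hinj : Function.Injective f := by
    intro s s' hss
    have h1 : g * (s : G) * g⁻¹ = g * (s' : G) * g⁻¹ := congrArg Subtype.val hss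
    apply Subtype.ext
    calc (s : G) = g⁻¹ * (g * (s : G) * g⁻¹) * g := by group
      _ = g⁻¹ * (g * (s' : G) * g⁻¹) * g := by rw [h1]
      _ = s' := by group
  have hsurj : Function.Surjective f := Finite.surjective_of_injective hinj
  rw [Subgroup.mem_normalizer_iff]
  intro x
  constructor
  · exact h x
  · intro hx
    obtain ⟨s, hs⟩ := hsurj ⟨g * x * g⁻¹, hx⟩
    have h1 : g * (s : G) * g⁻¹ = g * x * g⁻¹ := congrArg Subtype.val hs
    have h2 : x = s := by
      calc x = g⁻¹ * (g * x * g⁻¹) * g := by group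
        _ = g⁻¹ * (g * (s : G) * g⁻¹) * g := by rw [h1]
        _ = s := by group
    rw [h2]
    exact s.2

/-- **Transfer of a central involution.**  Let `S` be a Sylow `2`-subgroup of `G`, `z` a central
involution of `S` centralized by `N_G(S)`, and `ϕ : S → A` a homomorphism to a group of order `2`
with `ϕ z ≠ 1`.  Then `G` has a normal subgroup of index `2` not containing `z`. -/
theorem exists_index_two_of_central_involution {G : Type*} [Group G] [Finite G] (S : Sylow 2 G)
    {A : Type*} [CommGroup A] (hA : Nat.card A = 2) (ϕ : ↥(S : Subgroup G) →* A) (z : G)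
    (hzS : z ∈ (S : Subgroup G)) (hz2 : z * z = 1) (hzc : ∀ s ∈ (S : Subgroup G), s * z = z * s)
    (hzN : ∀ g ∈ Subgroup.normalizer ((S : Subgroup G) : Set G), g * z * g⁻¹ = z)
    (hϕz : ϕ ⟨z, hzS⟩ ≠ 1) : ∃ K : Subgroup G, K.Normal ∧ K.index = 2 ∧ z ∉ K := by
  classical
  have : Fact (Nat.Prime 2) := ⟨Nat.prime_two⟩
  have huu : ϕ ⟨z, hzS⟩ * ϕ ⟨z, hzS⟩ = 1 := by
    rw [← map_mul]
    have : (⟨z, hzS⟩ : ↥(S : Subgroup G)) * ⟨z, hzS⟩ = 1 := Subtype.ext hz2
    rw [this, map_one]
  -- the transfer formula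
  let _ := (S : Subgroup G).fintypeQuotientOfFiniteIndex
  let T₀ : (S : Subgroup G).LeftTransversal := default
  set a : G ⧸ (S : Subgroup G) → G := fun q => (T₀.2.leftQuotientEquiv q : G) with ha_def
  have ha : ∀ q, (QuotientGroup.mk (a q) : G ⧸ (S : Subgroup G)) = q := fun q =>
    T₀.2.quotientGroupMk_leftQuotientEquiv q
  set c : G ⧸ (S : Subgroup G) → G := fun q => (a q)⁻¹ * z * a q with hc_def
  let B : Set (G ⧸ (S : Subgroup G)) := {q | ∃ h : c q ∈ (S : Subgroup G), ϕ ⟨c q, h⟩ ≠ 1}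
  have hformula : MonoidHom.transfer ϕ z =
      ∏ q : G ⧸ (S : Subgroup G), if q ∈ B then ϕ ⟨z, hzS⟩ else 1 := by
    rw [Cfsg.Agent.H37.transfer_involution ϕ z hz2 T₀
      (fun x => if h : x ∈ (S : Subgroup G) then ϕ ⟨x, h⟩ else 1)
      (fun x h => by simp only [dif_pos h]) (fun x h => by simp only [dif_neg h])]
    refine Finset.prod_congr rfl fun q _ => ?_
    show (if h : c q ∈ (S : Subgroup G) then ϕ ⟨c q, h⟩ else 1) = _
    by_cases h : c q ∈ (S : Subgroup G)
    · rw [dif_pos h]
      by_cases h' : ϕ ⟨c q, h⟩ = 1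
      · rw [if_neg (fun ⟨_, h3⟩ => h3 h')]
        exact h'
      · rw [if_pos ⟨h, h'⟩]
        exact eq_of_ne_one_of_card_two hA h' hϕz
    · rw [dif_neg h, if_neg (fun ⟨h2, _⟩ => h h2)]
  -- `B` is `S`-invariant
  have hBinv : ∀ (s : ↥(S : Subgroup G)) (q : G ⧸ (S : Subgroup G)), q ∈ B → s • q ∈ B := by
    rintro s q ⟨h, hne⟩
    have ht : ((s : G) * a q)⁻¹ * a (s • q) ∈ (S : Subgroup G) := by
      rw [← QuotientGroup.eq, ha]
      show ((s : G) • (QuotientGroup.mk (a q) : G ⧸ (S : Subgroup G))) = s • q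
      rw [ha]
      rfl
    set t := ((s : G) * a q)⁻¹ * a (s • q) with ht_def
    have e1 : a (s • q) = (s : G) * a q * t := by rw [ht_def]; group
    have e2 : c (s • q) = t⁻¹ * c q * t := by
      simp only [hc_def]
      rw [e1]
      have hs := hzc s s.2
      calc ((s : G) * a q * t)⁻¹ * z * ((s : G) * a q * t)
          = t⁻¹ * (a q)⁻¹ * ((s : G)⁻¹ * (z * s)) * a q * t := by group
        _ = t⁻¹ * (a q)⁻¹ * ((s : G)⁻¹ * (s * z)) * a q * t := by rw [hs]
        _ = t⁻¹ * ((a q)⁻¹ * z * a q) * t := by group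
    have h2 : c (s • q) ∈ (S : Subgroup G) := by
      rw [e2]
      exact Subgroup.mul_mem _ (Subgroup.mul_mem _ (Subgroup.inv_mem _ ht) h) ht
    refine ⟨h2, ?_⟩
    have e3 : (⟨c (s • q), h2⟩ : ↥(S : Subgroup G)) =
        (⟨t, ht⟩ : ↥(S : Subgroup G))⁻¹ * ⟨c q, h⟩ * ⟨t, ht⟩ := Subtype.ext e2
    rw [e3, map_mul, map_mul, map_inv, mul_comm, mul_inv_cancel_left]
    exact hne
  -- fixed points of `S` lie in `B`
  have hfixB : (B ∩ MulAction.fixedPoints ↥(S : Subgroup G) (G ⧸ (S : Subgroup G)) : Set _) =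
      MulAction.fixedPoints ↥(S : Subgroup G) (G ⧸ (S : Subgroup G)) := by
    apply Set.inter_eq_right.mpr
    intro q hq
    have hnorm : (a q)⁻¹ ∈ Subgroup.normalizer ((S : Subgroup G) : Set G) := by
      apply mem_normalizer_of_conj_mem
      intro s hs
      have h1 : (⟨s, hs⟩ : ↥(S : Subgroup G)) • q = q := hq ⟨s, hs⟩
      have h2 : (QuotientGroup.mk (a q) : G ⧸ (S : Subgroup G)) = QuotientGroup.mk (s * a q) := by
        rw [ha]
        conv_lhs => rw [← h1]
        conv_lhs => rw [← ha q]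
        rfl
      have h3 := QuotientGroup.eq.mp h2
      rw [inv_inv]
      convert h3 using 1
      group
    have hcz : c q = z := by
      have := hzN _ hnorm
      rw [inv_inv] at this
      exact this
    have hcS : c q ∈ (S : Subgroup G) := by rw [hcz]; exact hzS
    refine ⟨hcS, ?_⟩
    have e : (⟨c q, hcS⟩ : ↥(S : Subgroup G)) = ⟨z, hzS⟩ := Subtype.ext hcz
    rw [e]
    exact hϕz
  -- counting
  have hS2 : IsPGroup 2 ↥(S : Subgroup G) := S.isPGroup'
  have h1 := card_invariant_modEq hS2 B hBinv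
  rw [hfixB] at h1
  have h2 := hS2.card_modEq_card_fixedPoints (G ⧸ (S : Subgroup G))
  have hodd : ¬ 2 ∣ Nat.card B := by
    intro hdvd
    have h3 : Nat.card (G ⧸ (S : Subgroup G)) ≡ 0 [MOD 2] :=
      h2.trans (h1.symm.trans (Nat.modEq_zero_iff_dvd.mpr hdvd))
    exact S.not_dvd_index (Nat.modEq_zero_iff_dvd.mp h3)
  have hV : MonoidHom.transfer ϕ z = ϕ ⟨z, hzS⟩ := by
    rw [hformula, Finset.prod_ite, Finset.prod_const_one, mul_one, Finset.prod_const]
    have hcard : (Finset.univ.filter (fun q => q ∈ B)).card = Nat.card B := by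
      rw [Nat.card_eq_fintype_card, Fintype.card_subtype]
    rw [hcard]
    have hodd' : Odd (Nat.card B) := by
      rw [← Nat.not_even_iff_odd, even_iff_two_dvd]
      exact hodd
    obtain ⟨k, hk⟩ := hodd'
    rw [hk, pow_succ, pow_mul, pow_two, huu, one_pow, one_mul]
  refine ⟨(MonoidHom.transfer ϕ).ker, MonoidHom.normal_ker _, ?_, ?_⟩
  · rw [Subgroup.index_ker]
    have h3 : Nat.card (MonoidHom.transfer ϕ).range ∣ 2 := by
      have h := Subgroup.card_subgroup_dvd_card (MonoidHom.transfer ϕ).range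
      rwa [hA] at h
    have h4 : Nat.card (MonoidHom.transfer ϕ).range ≠ 1 := by
      intro h
      rw [Subgroup.card_eq_one] at h
      have : MonoidHom.transfer ϕ z ∈ (MonoidHom.transfer ϕ).range := ⟨z, rfl⟩
      rw [h, Subgroup.mem_bot, hV] at this
      exact hϕz this
    rcases (Nat.dvd_prime Nat.prime_two).mp h3 with h | h
    · exact absurd h h4
    · exact h
  · rw [MonoidHom.mem_ker, hV]
    exact hϕz

end Cfsg.Agent.H54
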