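import Mathlib

/-!
# The four-group attached to a `J(T)`-component: the linear-algebra core (second form)

`V` an elementary abelian 2-group (written additively), `κ` a fixed-point-free additive map with
`κ³ = 1`, `α` an additive involution inverting `κ`, `Γ` an elementary abelian 2-group acting on
`V` and commuting with `κ` and `α`.  If the replacement inequality
`|V'| · |Δ| ≤ 2 |Γ| · |C_{V'}(Γ, α)|` holds for every subgroup `V'` of `V` and every subgroup `Δ`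
of `Γ` fixing `V'` pointwise, then `|V| ≤ 4`.
-/

set_option autoImplicit false

namespace Cfsg.Agent.H54.W4C

section core

variable {V : Type*} [AddCommGroup V] [Finite V]

/-- the semilinear count: `(u, v) ↦ u + κ v` is injective on pairs of `α`-fixed vectors -/
theorem semi_count (h2 : ∀ v : V, v + v = 0) (κ α : V → V)
    (hκa : ∀ u v, κ (u + v) = κ u + κ v) (hκ3 : ∀ v, κ (κ (κ v)) = v)
    (hκf : ∀ v, κ v = v → v = 0) (hαa : ∀ u v, α (u + v) = α u + α v)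
    (hακ : ∀ v, α (κ v) = κ (κ (α v)))
    (V' : AddSubgroup V) (hV'κ : ∀ v ∈ V', κ v ∈ V') :
    {v : V | v ∈ V' ∧ α v = v}.ncard * {v : V | v ∈ V' ∧ α v = v}.ncard ≤ Nat.card V' := by
  classical
  have hc : Nat.card V' = (V' : Set V).ncard := Nat.card_coe_set_eq (V' : Set V)
  rw [hc, ← Set.ncard_prod]
  have hκ0 : κ 0 = 0 := by
    have := hκa 0 0
    rw [add_zero] at this
    exact add_eq_left.mp this.symm
  have hsub : ∀ x y : V, x + y = 0 → x = y := by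
    intro x y h
    calc x = x + (y + y) := by rw [h2, add_zero]
      _ = (x + y) + y := by abel
      _ = y := by rw [h, zero_add]
  refine Set.ncard_le_ncard_of_injOn (fun p : V × V => p.1 + κ p.2) ?_ ?_ (Set.toFinite _)
  · rintro ⟨u, v⟩ ⟨hu, hv⟩
    exact V'.add_mem hu.1 (hV'κ v hv.1)
  · rintro ⟨u, v⟩ ⟨hu, hv⟩ ⟨u', v'⟩ ⟨hu', hv'⟩ h
    have hu1 : α u = u := hu.2
    have hv1 : α v = v := hv.2
    have hu2 : α u' = u' := hu'.2
    have hv2 : α v' = v' := hv'.2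
    have h' : u + κ v = u' + κ v' := h
    have hp : u + u' = κ (v + v') := by
      rw [hκa]
      apply hsub
      calc u + u' + (κ v + κ v') = (u + κ v) + (u' + κ v') := by abel
        _ = (u' + κ v') + (u' + κ v') := by rw [h']
        _ = 0 := h2 _
    have hq1 : α (u + u') = u + u' := by rw [hαa, hu1, hu2]
    have hq2 : α (v + v') = v + v' := by rw [hαa, hv1, hv2]
    have hq3 : κ (v + v') = κ (κ (v + v')) := by
      have e := hq1
      rw [hp, hακ, hq2] at e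
      exact e.symm
    have hq4 : v + v' = κ (v + v') := by
      have e := congrArg (fun x => κ (κ x)) hq3
      simp only [hκ3] at e
      exact e
    have hq5 : v + v' = 0 := hκf _ hq4.symm
    have hp5 : u + u' = 0 := by rw [hp, hq5, hκ0]
    exact Prod.ext (hsub _ _ hp5) (hsub _ _ hq5)

variable {Γ : Type*} [Group Γ] [Finite Γ]

/-- the core bound `|V| ≤ 4` -/
theorem core_add (h2 : ∀ v : V, v + v = 0)
    (κ : V → V) (hκa : ∀ u v, κ (u + v) = κ u + κ v) (hκ3 : ∀ v, κ (κ (κ v)) = v)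
    (hκf : ∀ v, κ v = v → v = 0)
    (α : V → V) (hαa : ∀ u v, α (u + v) = α u + α v) (hα2 : ∀ v, α (α v) = v)
    (ha : ∀ v, α (κ v) = κ (κ (α v)))
    (ρ : Γ → V → V) (hρa : ∀ g u v, ρ g (u + v) = ρ g u + ρ g v)
    (hρm : ∀ g h v, ρ (g * h) v = ρ g (ρ h v)) (hρ2 : ∀ g v, ρ g (ρ g v) = v)
    (hΓc : ∀ g h : Γ, g * h = h * g)
    (hb : ∀ b v, ρ b (κ v) = κ (ρ b v))
    (hαρ : ∀ b v, α (ρ b v) = ρ b (α v))
    (hP : ∀ (V' : AddSubgroup V) (Δ : Subgroup Γ), (∀ g ∈ Δ, ∀ v ∈ V', ρ g v = v) →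
      Nat.card V' * Nat.card Δ ≤
        2 * Nat.card Γ * {v : V | v ∈ V' ∧ (∀ g, ρ g v = v) ∧ α v = v}.ncard) :
    Nat.card V ≤ 4 := by
  classical
  have hρ1 : ∀ v, ρ 1 v = v := fun v => by
    have e := hρm 1 1 v
    rw [mul_one] at e
    rw [e, hρ2]
  have hρc : ∀ g h v, ρ g (ρ h v) = ρ h (ρ g v) := fun g h v => by rw [← hρm, hΓc, hρm]
  have hρ0 : ∀ g, ρ g 0 = 0 := fun g => by
    have e := hρa g 0 0
    rw [add_zero] at e
    exact add_eq_left.mp e.symm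
  have hα0 : α 0 = 0 := by
    have e := hαa 0 0
    rw [add_zero] at e
    exact add_eq_left.mp e.symm
  have hneg : ∀ v : V, -v = v := fun v => neg_eq_of_add_eq_zero_left (h2 v)
  have hsub : ∀ x y : V, x + y = 0 → x = y := by
    intro x y h
    calc x = x + (y + y) := by rw [h2, add_zero]
      _ = (x + y) + y := by abel
      _ = y := by rw [h, zero_add]
  have hN : ∀ v, v + κ v + κ (κ v) = 0 := fun v => hκf _ (by
    rw [hκa, hκa, hκ3]; abel)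
  have hρinv : ∀ g v, ρ g⁻¹ v = ρ g v := fun g v => by
    have e : ρ g⁻¹ (ρ g (ρ g v)) = ρ g v := by rw [← hρm, inv_mul_cancel, hρ1]
    rw [hρ2] at e
    exact e
  -- the fixed points of `Γ`
  let Y₀ : AddSubgroup V :=
    { carrier := {v | ∀ b, ρ b v = v}
      add_mem' := fun {u v} hu hv b => by rw [hρa, hu b, hv b]
      zero_mem' := fun b => hρ0 b
      neg_mem' := fun {v} hv b => by rw [hneg]; exact hv b }
  have hY₀ : ∀ v, v ∈ Y₀ ↔ ∀ b, ρ b v = v := fun v => Iff.rfl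
  have hY₀α : ∀ v ∈ Y₀, α v ∈ Y₀ := fun v hv b => by rw [← hαρ, hv b]
  have hY₀κ : ∀ v ∈ Y₀, κ v ∈ Y₀ := fun v hv c => by rw [hb c, hv c]
  have hn0 : 0 < Nat.card Γ := Nat.card_pos
  -- step 2: `|Y₀| ≤ 2 c` and `c ≤ 2`
  have hc0 := semi_count h2 κ α hκa hκ3 hκf hαa ha Y₀ hY₀κ
  have hP0 := hP Y₀ ⊤ (fun g _ v hv => hv g)
  rw [Subgroup.card_top] at hP0
  have hI0 : {v : V | v ∈ Y₀ ∧ (∀ g, ρ g v = v) ∧ α v = v}.ncard ≤
      {v : V | v ∈ Y₀ ∧ α v = v}.ncard :=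
    Set.ncard_le_ncard (fun v hv => ⟨hv.1, hv.2.2⟩) (Set.toFinite _)
  have hY₀c : Nat.card Y₀ ≤ 2 * {v : V | v ∈ Y₀ ∧ α v = v}.ncard := by
    have e1 : Nat.card Y₀ * Nat.card Γ ≤
        (2 * {v : V | v ∈ Y₀ ∧ α v = v}.ncard) * Nat.card Γ := by
      calc Nat.card Y₀ * Nat.card Γ
          ≤ 2 * Nat.card Γ * {v : V | v ∈ Y₀ ∧ (∀ g, ρ g v = v) ∧ α v = v}.ncard := hP0
        _ ≤ 2 * Nat.card Γ * {v : V | v ∈ Y₀ ∧ α v = v}.ncard := Nat.mul_le_mul_left _ hI0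
        _ = (2 * {v : V | v ∈ Y₀ ∧ α v = v}.ncard) * Nat.card Γ := by ring
    exact Nat.le_of_mul_le_mul_right e1 hn0
  have hc2 : {v : V | v ∈ Y₀ ∧ α v = v}.ncard ≤ 2 := by
    by_contra hcon
    push Not at hcon
    nlinarith
  have hY₀4 : Nat.card Y₀ ≤ 4 := by omega
  -- step 3
  by_cases hT : Y₀ = ⊤
  · rw [← AddSubgroup.card_top (G := V), ← hT]
    exact hY₀4
  exfalso
  obtain ⟨v₀, hv₀⟩ : ∃ v, v ∉ Y₀ := by
    by_contra hcon
    push Not at hcon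
    exact hT ((AddSubgroup.eq_top_iff' Y₀).mpr hcon)
  -- the second layer
  have hL : ∀ n : ℕ, ∀ V' : AddSubgroup V, Nat.card V' = n →
      (∀ b, ∀ v ∈ V', ρ b v ∈ V') → (∃ v ∈ V', v ∉ Y₀) →
      ∃ y ∈ V', y ∉ Y₀ ∧ ∀ b, ρ b y + y ∈ Y₀ := by
    intro n
    induction n using Nat.strong_induction_on with
    | _ n ih =>
      intro V' hn hinv hex
      obtain ⟨v, hv, hvY⟩ := hex
      by_cases hall : ∀ b, ρ b v + v ∈ Y₀
      · exact ⟨v, hv, hvY, hall⟩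
      push Not at hall
      obtain ⟨b, hbv⟩ := hall
      let φ : V →+ V := AddMonoidHom.mk' (fun u => ρ b u + u) (fun u w => by
        show ρ b (u + w) + (u + w) = ρ b u + u + (ρ b w + w)
        rw [hρa]; abel)
      have hφ : ∀ u, φ u = ρ b u + u := fun u => rfl
      have hφφ : ∀ u, φ (φ u) = 0 := by
        intro u
        rw [hφ, hφ, hρa, hρ2]
        calc u + ρ b u + (ρ b u + u) = (u + u) + (ρ b u + ρ b u) := by abel
          _ = 0 := by rw [h2, h2, add_zero]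
      have hsubV : V'.map φ ≤ V' := by
        rintro _ ⟨u, hu, rfl⟩
        exact V'.add_mem (hinv b u hu) hu
      have hneV : V'.map φ ≠ V' := by
        intro e
        have h1 : v ∈ V'.map φ := by rw [e]; exact hv
        obtain ⟨u, hu, rfl⟩ := h1
        have h2' : u ∈ V'.map φ := by rw [e]; exact hu
        obtain ⟨u', hu', rfl⟩ := h2'
        rw [hφφ] at hvY
        exact hvY Y₀.zero_mem
      have hlt : Nat.card (V'.map φ) < Nat.card V' := by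
        have hss : ((V'.map φ : AddSubgroup V) : Set V) ⊂ (V' : Set V) :=
          ⟨hsubV, fun h => hneV (le_antisymm hsubV h)⟩
        have e := Set.ncard_lt_ncard hss (Set.toFinite _)
        rw [← Nat.card_coe_set_eq, ← Nat.card_coe_set_eq] at e
        exact e
      obtain ⟨y, hy, hyY, hyall⟩ := ih (Nat.card (V'.map φ)) (hn ▸ hlt) (V'.map φ) rfl
        (by
          rintro c _ ⟨u, hu, rfl⟩
          refine ⟨ρ c u, hinv c u hu, ?_⟩
          rw [hφ, hφ, hρa, hρc])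
        ⟨φ v, AddSubgroup.mem_map_of_mem φ hv, hbv⟩
      exact ⟨y, hsubV hy, hyY, hyall⟩
  obtain ⟨y, -, hyY, hyall⟩ := hL (Nat.card (⊤ : AddSubgroup V)) ⊤ rfl
    (fun _ _ _ => AddSubgroup.mem_top _) ⟨v₀, AddSubgroup.mem_top _, hv₀⟩
  -- an `α`-fixed element of the second layer outside `Y₀`
  have hP1a : ∀ v, (∀ b, ρ b v + v ∈ Y₀) → ∀ b, ρ b (α v) + α v ∈ Y₀ := by
    intro v hv b
    have e : ρ b (α v) + α v = α (ρ b v + v) := by rw [hαa, hαρ]
    rw [e]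
    exact hY₀α _ (hv b)
  have hP1κ : ∀ v, (∀ b, ρ b v + v ∈ Y₀) → ∀ b, ρ b (κ v) + κ v ∈ Y₀ := by
    intro v hv b
    have e : ρ b (κ v) + κ v = κ (ρ b v + v) := by rw [hκa, hb b]
    rw [e]
    exact hY₀κ _ (hv b)
  have hP1add : ∀ u v, (∀ b, ρ b u + u ∈ Y₀) → (∀ b, ρ b v + v ∈ Y₀) →
      ∀ b, ρ b (u + v) + (u + v) ∈ Y₀ := by
    intro u v hu hv b
    have e : ρ b (u + v) + (u + v) = (ρ b u + u) + (ρ b v + v) := by rw [hρa]; abel
    rw [e]
    exact Y₀.add_mem (hu b) (hv b)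
  obtain ⟨y₁, hy₁Y, hy₁a, hy₁all⟩ : ∃ y₁, y₁ ∉ Y₀ ∧ α y₁ = y₁ ∧
      ∀ b, ρ b y₁ + y₁ ∈ Y₀ := by
    by_cases h1 : y + α y ∈ Y₀
    · refine ⟨κ y + α (κ y), ?_, ?_, ?_⟩
      · intro h3
        apply hyY
        have e : y = (κ y + α (κ y)) + κ (κ (y + α y)) := by
          rw [ha, hκa, hκa]
          have e1 := hN y
          calc y = y + ((κ (κ (α y))) + (κ (κ (α y)))) + (y + κ y + κ (κ y)) := by
                rw [h2, e1, add_zero, add_zero]
            _ = (y + y) + (κ y + κ (κ (α y)) + (κ (κ y) + κ (κ (α y)))) := by abel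
            _ = κ y + κ (κ (α y)) + (κ (κ y) + κ (κ (α y))) := by rw [h2, zero_add]
        rw [e]
        exact Y₀.add_mem h3 (hY₀κ _ (hY₀κ _ h1))
      · rw [hαa, hα2, add_comm]
      · exact hP1add _ _ (hP1κ y hyall) (hP1a _ (hP1κ y hyall))
    · refine ⟨y + α y, h1, ?_, ?_⟩
      · rw [hαa, hα2, add_comm]
      · exact hP1add _ _ hyall (hP1a y hyall)
  -- an element of `Γ` moving `y₁`
  obtain ⟨b₀, hb₀y⟩ : ∃ b₀, ρ b₀ y₁ ≠ y₁ := by
    by_contra hcon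
    push Not at hcon
    exact hy₁Y hcon
  have heY : ρ b₀ y₁ + y₁ ∈ Y₀ := hy₁all b₀
  have he0 : ρ b₀ y₁ + y₁ ≠ 0 := fun h => hb₀y (hsub _ _ h)
  have hea : α (ρ b₀ y₁ + y₁) = ρ b₀ y₁ + y₁ := by rw [hαa, hαρ, hy₁a]
  -- `C_{Y₀}(α) = {0, e}`
  have hC0 : ∀ v, v ∈ Y₀ → α v = v → v = 0 ∨ v = ρ b₀ y₁ + y₁ := by
    intro v hvY hva
    by_contra hcon
    push Not at hcon
    have h3 : ({0, ρ b₀ y₁ + y₁, v} : Set V).ncard = 3 := by
      rw [Set.ncard_insert_of_notMem, Set.ncard_pair hcon.2.symm]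
      intro h
      simp only [Set.mem_insert_iff, Set.mem_singleton_iff] at h
      rcases h with h | h
      · exact he0 h.symm
      · exact hcon.1 h.symm
    have h4 : ({0, ρ b₀ y₁ + y₁, v} : Set V) ⊆ {v : V | v ∈ Y₀ ∧ α v = v} := by
      intro w hw
      simp only [Set.mem_insert_iff, Set.mem_singleton_iff] at hw
      rcases hw with rfl | rfl | rfl
      · exact ⟨Y₀.zero_mem, hα0⟩
      · exact ⟨heY, hea⟩
      · exact ⟨hvY, hva⟩
    have h5 := Set.ncard_le_ncard h4 (Set.toFinite _)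
    omega
  have hδ : ∀ b, ρ b y₁ = y₁ ∨ ρ b y₁ = ρ b₀ y₁ := by
    intro b
    have h1 : α (ρ b y₁ + y₁) = ρ b y₁ + y₁ := by rw [hαa, hαρ, hy₁a]
    rcases hC0 _ (hy₁all b) h1 with h | h
    · exact Or.inl (hsub _ _ h)
    · right
      have e : ρ b y₁ = (ρ b y₁ + y₁) + y₁ := by
        calc ρ b y₁ = ρ b y₁ + (y₁ + y₁) := by rw [h2, add_zero]
          _ = (ρ b y₁ + y₁) + y₁ := by abel
      rw [e, h]
      calc ρ b₀ y₁ + y₁ + y₁ = ρ b₀ y₁ + (y₁ + y₁) := by abel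
        _ = ρ b₀ y₁ := by rw [h2, add_zero]
  -- the stabilizer of `y₁` in `Γ`
  let Γ₁ : Subgroup Γ :=
    { carrier := {g | ρ g y₁ = y₁}
      mul_mem' := fun {g h} hg hh => by
        show ρ (g * h) y₁ = y₁
        rw [hρm, show ρ h y₁ = y₁ from hh, show ρ g y₁ = y₁ from hg]
      one_mem' := hρ1 _
      inv_mem' := fun {g} hg => by
        show ρ g⁻¹ y₁ = y₁
        rw [hρinv]; exact hg }
  have hΓ₁ : ∀ g, g ∈ Γ₁ ↔ ρ g y₁ = y₁ := fun g => Iff.rfl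
  have hn1 : 0 < Nat.card Γ₁ := Nat.card_pos
  have hΓcard : Nat.card Γ ≤ 2 * Nat.card Γ₁ := by
    have hcov : (Set.univ : Set Γ) ⊆ (Γ₁ : Set Γ) ∪ (fun g => b₀ * g) '' (Γ₁ : Set Γ) := by
      intro b _
      rcases hδ b with h | h
      · exact Or.inl ((hΓ₁ b).mpr h)
      · refine Or.inr ⟨b₀⁻¹ * b, (hΓ₁ _).mpr ?_, by group⟩
        rw [hρm, h, ← hρm, inv_mul_cancel, hρ1]
    have e1 := Set.ncard_le_ncard hcov (Set.toFinite _)
    have e2 := Set.ncard_union_le (Γ₁ : Set Γ) ((fun g => b₀ * g) '' (Γ₁ : Set Γ))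
    have e3 := Set.ncard_image_le (f := fun g => b₀ * g) (Set.toFinite (Γ₁ : Set Γ))
    have e4 : (Γ₁ : Set Γ).ncard = Nat.card Γ₁ := (Nat.card_coe_set_eq (Γ₁ : Set Γ)).symm
    rw [Set.ncard_univ] at e1
    omega
  -- the fixed points of `Γ₁`
  let Y₂ : AddSubgroup V :=
    { carrier := {v | ∀ g ∈ Γ₁, ρ g v = v}
      add_mem' := fun {u v} hu hv g hg => by rw [hρa, hu g hg, hv g hg]
      zero_mem' := fun g _ => hρ0 g
      neg_mem' := fun {v} hv g hg => by rw [hneg]; exact hv g hg }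
  have hY₂κ : ∀ v ∈ Y₂, κ v ∈ Y₂ := fun v hv c hc => by rw [hb c, hv c hc]
  have hY₀₂ : ∀ v ∈ Y₀, v ∈ Y₂ := fun v hv c _ => hv c
  have hy₁2 : y₁ ∈ Y₂ := fun c hc => (hΓ₁ c).mp hc
  have hP2 := hP Y₂ Γ₁ (fun g hg v hv => hv g hg)
  have hc2' := semi_count h2 κ α hκa hκ3 hκf hαa ha Y₂ hY₂κ
  have hI2 : {v : V | v ∈ Y₂ ∧ (∀ g, ρ g v = v) ∧ α v = v}.ncard ≤
      {v : V | v ∈ Y₀ ∧ α v = v}.ncard :=
    Set.ncard_le_ncard (fun v hv => ⟨fun b => hv.2.1 b, hv.2.2⟩) (Set.toFinite _)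
  have hY₂8 : Nat.card Y₂ ≤ 8 := by
    have e1 : Nat.card Y₂ * Nat.card Γ₁ ≤ 8 * Nat.card Γ₁ := by
      calc Nat.card Y₂ * Nat.card Γ₁
          ≤ 2 * Nat.card Γ * {v : V | v ∈ Y₂ ∧ (∀ g, ρ g v = v) ∧ α v = v}.ncard := hP2
        _ ≤ 2 * (2 * Nat.card Γ₁) * 2 :=
            Nat.mul_le_mul (Nat.mul_le_mul_left _ hΓcard) (hI2.trans hc2)
        _ = 8 * Nat.card Γ₁ := by ring
    exact Nat.le_of_mul_le_mul_right e1 hn1
  have h3 : 3 ≤ {v : V | v ∈ Y₂ ∧ α v = v}.ncard := by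
    have hne1 : (ρ b₀ y₁ + y₁) ≠ y₁ := fun h => hy₁Y (h ▸ heY)
    have hne2 : (0 : V) ≠ y₁ := fun h => hy₁Y (h ▸ Y₀.zero_mem)
    have h3' : ({0, ρ b₀ y₁ + y₁, y₁} : Set V).ncard = 3 := by
      rw [Set.ncard_insert_of_notMem, Set.ncard_pair hne1]
      intro h
      simp only [Set.mem_insert_iff, Set.mem_singleton_iff] at h
      rcases h with h | h
      · exact he0 h.symm
      · exact hne2 h
    have h4 : ({0, ρ b₀ y₁ + y₁, y₁} : Set V) ⊆ {v : V | v ∈ Y₂ ∧ α v = v} := by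
      intro w hw
      simp only [Set.mem_insert_iff, Set.mem_singleton_iff] at hw
      rcases hw with rfl | rfl | rfl
      · exact ⟨Y₂.zero_mem, hα0⟩
      · exact ⟨hY₀₂ _ heY, hea⟩
      · exact ⟨hy₁2, hy₁a⟩
    have h5 := Set.ncard_le_ncard h4 (Set.toFinite _)
    omega
  nlinarith

end core

end Cfsg.Agent.H54.W4C
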