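import Mathlib
import Cfsg.Agent.H57.W4Defs
import Cfsg.Agent.H54.W4CoreAdd

/-!
# W4-CORE: the abstract bound `|U| ≤ 4` (subgroup form)

The statement `Cfsg.Agent.H57.W4.StCore`, obtained from the additive core
`Cfsg.Agent.H54.W4C.core_add`.  The counting hypothesis `StCnt` is not needed.
-/

set_option autoImplicit false

namespace Cfsg.Agent.H54.W4C

universe u

/-- the product formula when `H` normalizes `K` -/
theorem card_sup_mul_card_inf {G : Type*} [Group G] {H K : Subgroup G}
    (h : H ≤ Subgroup.normalizer (K : Set G)) :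
    Nat.card (H ⊔ K : Subgroup G) * Nat.card (H ⊓ K : Subgroup G) = Nat.card H * Nat.card K := by
  have key : ∀ {A B : Subgroup G}, A ≤ B → Nat.card A * A.relIndex B = Nat.card B := by
    intro A B hAB
    have h1 := Subgroup.relIndex_mul_relIndex ⊥ A B bot_le hAB
    rwa [Subgroup.relIndex_bot_left, Subgroup.relIndex_bot_left] at h1
  have e1 : K.relIndex (H ⊔ K) = K.relIndex H := by
    let _ := Subgroup.normal_subgroupOf_of_le_normalizer h
    let _ := Subgroup.normal_subgroupOf_sup_of_le_normalizer h
    exact Nat.card_congr (QuotientGroup.quotientInfEquivProdNormalizerQuotient H K h).toEquiv.symm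
  have e2 := key (le_sup_right : K ≤ H ⊔ K)
  have e3 := key (inf_le_left : H ⊓ K ≤ H)
  rw [Subgroup.inf_relIndex_left] at e3
  rw [← e2, ← e3, e1]
  ring

/-- a subgroup generated by pairwise commuting involutions is abelian of exponent 2 -/
theorem closure_comm_inv {G : Type*} [Group G] (S : Set G)
    (hc : ∀ s ∈ S, ∀ t ∈ S, s * t = t * s) (h2 : ∀ s ∈ S, s * s = 1) :
    (∀ b ∈ Subgroup.closure S, ∀ c ∈ Subgroup.closure S, b * c = c * b) ∧
      ∀ b ∈ Subgroup.closure S, b * b = 1 := by
  have hcomm : ∀ b ∈ Subgroup.closure S, ∀ c ∈ Subgroup.closure S, b * c = c * b := by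
    intro b hb c hc'
    have := Subgroup.isMulCommutative_closure hc
    have := mul_comm' (⟨b, hb⟩ : ↥(Subgroup.closure S)) ⟨c, hc'⟩
    exact congrArg Subtype.val this
  refine ⟨hcomm, ?_⟩
  intro b hb
  induction hb using Subgroup.closure_induction with
  | mem s hs => exact h2 s hs
  | one => exact one_mul 1
  | mul y z hy hz ihy ihz =>
    calc y * z * (y * z) = y * (z * y) * z := by group
      _ = y * (y * z) * z := by rw [hcomm z hz y hy]
      _ = (y * y) * (z * z) := by group
      _ = 1 := by rw [ihy, ihz, one_mul]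
  | inv y hy ihy =>
    calc y⁻¹ * y⁻¹ = (y * y)⁻¹ := by group
      _ = 1 := by rw [ihy, inv_one]

/-- **W4-CORE** -/
theorem core (_hCnt : Cfsg.Agent.H57.W4.StCnt.{u}) : Cfsg.Agent.H57.W4.StCore.{u} := by
  intro G _ _ A0 U x a hUc hU2 hxU hxf hx3 haU ha2 hax hAc hA2 hAU hAa hAx hrep
  classical
  let _ : CommGroup ↥U := { (inferInstance : Group ↥U) with
    mul_comm := fun u v => Subtype.ext (hUc u u.2 v v.2) }
  -- conjugation maps on `U`
  let κ : Additive ↥U → Additive ↥U := fun v =>
    Additive.ofMul (⟨x * ((Additive.toMul v : ↥U) : G) * x⁻¹, hxU _ (Additive.toMul v).2⟩ : ↥U)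
  let α : Additive ↥U → Additive ↥U := fun v =>
    Additive.ofMul (⟨a * ((Additive.toMul v : ↥U) : G) * a⁻¹, haU _ (Additive.toMul v).2⟩ : ↥U)
  let ρ : ↥A0 → Additive ↥U → Additive ↥U := fun b v =>
    Additive.ofMul (⟨(b : G) * ((Additive.toMul v : ↥U) : G) * (b : G)⁻¹,
      hAU b b.2 _ (Additive.toMul v).2⟩ : ↥U)
  have hext : ∀ u v : Additive ↥U,
      ((Additive.toMul u : ↥U) : G) = ((Additive.toMul v : ↥U) : G) → u = v :=
    fun u v h => Subtype.ext h
  have hκv : ∀ v : Additive ↥U, ((Additive.toMul (κ v) : ↥U) : G) =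
      x * ((Additive.toMul v : ↥U) : G) * x⁻¹ := fun v => rfl
  have hαv : ∀ v : Additive ↥U, ((Additive.toMul (α v) : ↥U) : G) =
      a * ((Additive.toMul v : ↥U) : G) * a⁻¹ := fun v => rfl
  have hρv : ∀ (b : ↥A0) (v : Additive ↥U), ((Additive.toMul (ρ b v) : ↥U) : G) =
      (b : G) * ((Additive.toMul v : ↥U) : G) * (b : G)⁻¹ := fun b v => rfl
  have haddv : ∀ u v : Additive ↥U, ((Additive.toMul (u + v) : ↥U) : G) =
      ((Additive.toMul u : ↥U) : G) * ((Additive.toMul v : ↥U) : G) := fun u v => rfl
  have hzerov : ((Additive.toMul (0 : Additive ↥U) : ↥U) : G) = 1 := rfl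
  have hmem : ∀ v : Additive ↥U, ((Additive.toMul v : ↥U) : G) ∈ U := fun v =>
    (Additive.toMul v).2
  have key : Nat.card (Additive ↥U) ≤ 4 := by
    refine core_add (V := Additive ↥U) (Γ := ↥A0) ?_ κ ?_ ?_ ?_ α ?_ ?_ ?_ ρ ?_ ?_ ?_ ?_ ?_ ?_ ?_
    · -- exponent 2
      intro v
      apply hext
      rw [haddv, hzerov]
      exact hU2 _ (hmem v)
    · -- κ additive
      intro u v
      apply hext
      rw [hκv, haddv, haddv, hκv, hκv]
      group
    · -- κ³ = 1
      intro v
      apply hext
      rw [hκv, hκv, hκv]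
      exact hx3 _ (hmem v)
    · -- κ fixed-point-free
      intro v hv
      apply hext
      rw [hzerov]
      apply hxf _ (hmem v)
      have := congrArg (fun w : Additive ↥U => ((Additive.toMul w : ↥U) : G)) hv
      simpa only [hκv] using this
    · -- α additive
      intro u v
      apply hext
      rw [hαv, haddv, haddv, hαv, hαv]
      group
    · -- α² = 1
      intro v
      apply hext
      rw [hαv, hαv]
      exact ha2 _ (hmem v)
    · -- α κ = κ κ α
      intro v
      apply hext
      rw [hαv, hκv, hκv, hκv, hαv]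
      have h1 := hax _ (haU _ (hmem v))
      have h2 : a⁻¹ * (a * ((Additive.toMul v : ↥U) : G) * a⁻¹) * a =
          ((Additive.toMul v : ↥U) : G) := by group
      rw [h2] at h1
      rw [h1]
      have h3 := hx3 _ (haU _ (hmem v))
      calc x⁻¹ * (a * ((Additive.toMul v : ↥U) : G) * a⁻¹) * x
          = x⁻¹ * (x * (x * (x * (a * ((Additive.toMul v : ↥U) : G) * a⁻¹) * x⁻¹) * x⁻¹) * x⁻¹)
              * x := by rw [h3]
        _ = x * (x * (a * ((Additive.toMul v : ↥U) : G) * a⁻¹) * x⁻¹) * x⁻¹ := by group
    · -- ρ additive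
      intro b u v
      apply hext
      rw [hρv, haddv, haddv, hρv, hρv]
      group
    · -- ρ multiplicative
      intro b c v
      apply hext
      rw [hρv, hρv, hρv]
      show ((b : G) * (c : G)) * ((Additive.toMul v : ↥U) : G) * ((b : G) * (c : G))⁻¹ = _
      group
    · -- ρ involutive
      intro b v
      apply hext
      rw [hρv, hρv]
      have hb2 := hA2 b b.2
      calc (b : G) * ((b : G) * ((Additive.toMul v : ↥U) : G) * (b : G)⁻¹) * (b : G)⁻¹
          = ((b : G) * (b : G)) * ((Additive.toMul v : ↥U) : G) * ((b : G) * (b : G))⁻¹ := by group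
        _ = ((Additive.toMul v : ↥U) : G) := by rw [hb2]; group
    · -- Γ commutative
      intro b c
      exact Subtype.ext (hAc b b.2 c c.2)
    · -- ρ commutes with κ
      intro b v
      apply hext
      rw [hρv, hκv, hκv, hρv]
      exact hAx b b.2 _ (hmem v)
    · -- α commutes with ρ
      intro b v
      apply hext
      rw [hαv, hρv, hρv, hαv]
      have hba := hAa b b.2
      have hba' : a⁻¹ * (b : G)⁻¹ = (b : G)⁻¹ * a⁻¹ := by
        rw [← mul_inv_rev, ← mul_inv_rev, hba]
      calc a * ((b : G) * ((Additive.toMul v : ↥U) : G) * (b : G)⁻¹) * a⁻¹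
          = (a * (b : G)) * ((Additive.toMul v : ↥U) : G) * ((b : G)⁻¹ * a⁻¹) := by group
        _ = ((b : G) * a) * ((Additive.toMul v : ↥U) : G) * (a⁻¹ * (b : G)⁻¹) := by
            rw [hba, hba']
        _ = (b : G) * (a * ((Additive.toMul v : ↥U) : G) * a⁻¹) * (b : G)⁻¹ := by group
    · -- the replacement inequality
      intro V' Δ hfix
      let D : Subgroup G := Δ.map A0.subtype
      let W : Subgroup G := (AddSubgroup.toSubgroup' V').map U.subtype
      have hDmem : ∀ g ∈ D, ∃ d : ↥A0, d ∈ Δ ∧ (d : G) = g := fun g hg => hg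
      have hWmem : ∀ g ∈ W, ∃ v : Additive ↥U, v ∈ V' ∧ ((Additive.toMul v : ↥U) : G) = g := by
        rintro g ⟨u, hu, rfl⟩
        exact ⟨Additive.ofMul u, hu, rfl⟩
      have hcD : Nat.card D = Nat.card Δ :=
        Subgroup.card_map_of_injective (Subgroup.subtype_injective A0)
      have hcW : Nat.card W = Nat.card V' := by
        have e1 : Nat.card W = Nat.card (AddSubgroup.toSubgroup' V') :=
          Subgroup.card_map_of_injective (Subgroup.subtype_injective U)
        rw [e1]
        rfl
      have hDA : D ≤ A0 := by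
        rintro g ⟨d, -, rfl⟩
        exact d.2
      have hWU : W ≤ U := by
        rintro g ⟨u, -, rfl⟩
        exact u.2
      have hDW : ∀ d ∈ D, ∀ w ∈ W, d * w = w * d := by
        intro d hd w hw
        obtain ⟨d', hd', rfl⟩ := hDmem d hd
        obtain ⟨v, hv, rfl⟩ := hWmem w hw
        have e := hfix d' hd' v hv
        have e' := congrArg (fun w : Additive ↥U => ((Additive.toMul w : ↥U) : G)) e
        simp only [hρv] at e'
        calc (d' : G) * ((Additive.toMul v : ↥U) : G)
            = ((d' : G) * ((Additive.toMul v : ↥U) : G) * (d' : G)⁻¹) * (d' : G) := by group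
          _ = ((Additive.toMul v : ↥U) : G) * (d' : G) := by rw [e']
      have hS2 : ∀ s ∈ (D : Set G) ∪ (W : Set G), s * s = 1 := by
        rintro s (hs | hs)
        · exact hA2 s (hDA hs)
        · exact hU2 s (hWU hs)
      have hSc : ∀ s ∈ (D : Set G) ∪ (W : Set G), ∀ t ∈ (D : Set G) ∪ (W : Set G),
          s * t = t * s := by
        rintro s (hs | hs) t (ht | ht)
        · exact hAc s (hDA hs) t (hDA ht)
        · exact hDW s hs t ht
        · exact (hDW t ht s hs).symm
        · exact hUc s (hWU hs) t (hWU ht)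
      have hBc := closure_comm_inv ((D : Set G) ∪ (W : Set G)) hSc hS2
      rw [← Subgroup.sup_eq_closure] at hBc
      have hB := hrep (D ⊔ W) (sup_le (hDA.trans le_sup_left) (hWU.trans le_sup_right))
        hBc.1 hBc.2
      have hDN : D ≤ Subgroup.normalizer (W : Set G) := by
        intro d hd
        rw [Subgroup.mem_normalizer_iff]
        intro w
        constructor
        · intro hw
          have e : d * w * d⁻¹ = w := by rw [hDW d hd w hw]; group
          rw [e]
          exact hw
        · intro hw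
          have e := hDW d hd _ hw
          have e2 : d * w * d⁻¹ = w := by
            calc d * w * d⁻¹ = d⁻¹ * (d * (d * w * d⁻¹)) := by group
              _ = d⁻¹ * ((d * w * d⁻¹) * d) := by rw [e]
              _ = w := by group
          rw [e2] at hw
          exact hw
      have hprod := card_sup_mul_card_inf (H := D) (K := W) hDN
      have hinf : Nat.card (D ⊓ W : Subgroup G) ≤
          {v : Additive ↥U | v ∈ V' ∧ (∀ g, ρ g v = v) ∧ α v = v}.ncard := by
        have e0 : Nat.card (D ⊓ W : Subgroup G) = ((D ⊓ W : Subgroup G) : Set G).ncard :=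
          Nat.card_coe_set_eq _
        rw [e0]
        have himg : ((D ⊓ W : Subgroup G) : Set G) ⊆
            (fun v : Additive ↥U => ((Additive.toMul v : ↥U) : G)) ''
              {v : Additive ↥U | v ∈ V' ∧ (∀ g, ρ g v = v) ∧ α v = v} := by
          intro g hg
          obtain ⟨v, hv, rfl⟩ := hWmem g hg.2
          have hgA : ((Additive.toMul v : ↥U) : G) ∈ A0 := hDA hg.1
          refine ⟨v, ⟨hv, ?_, ?_⟩, rfl⟩
          · intro b
            apply hext
            rw [hρv]
            have e := hAc b b.2 _ hgA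
            rw [e]
            group
          · apply hext
            rw [hαv]
            have e := hAa _ hgA
            rw [← e]
            group
        exact (Set.ncard_le_ncard himg (Set.toFinite _)).trans
          (Set.ncard_image_le (Set.toFinite _))
      calc Nat.card V' * Nat.card Δ = Nat.card D * Nat.card W := by rw [hcD, hcW]; ring
        _ = Nat.card (D ⊔ W : Subgroup G) * Nat.card (D ⊓ W : Subgroup G) := hprod.symm
        _ ≤ (2 * Nat.card A0) *
            {v : Additive ↥U | v ∈ V' ∧ (∀ g, ρ g v = v) ∧ α v = v}.ncard :=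
          Nat.mul_le_mul hB hinf
  exact key

universe v in
example (hCnt : Cfsg.Agent.H57.W4.StCnt.{v}) : Cfsg.Agent.H57.W4.StCore.{v} := core hCnt

end Cfsg.Agent.H54.W4C
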